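import Groth.Agent.FFLib.SV.Jumps
import Groth.Agent.FFLib.Local.Expansion
import Groth.Agent.FFLib.Local.Hasse
import Groth.Agent.FFLib.GeometricPlace
import Groth.Agent.FFLib.Rational
import Groth.Agent.FFLib.Plucker
import Mathlib.LinearAlgebra.Matrix.NonsingularInverse
import Mathlib.Algebra.Algebra.Tower

/-! Reading functions, Hasse derivatives and values through an expansion at a place. -/

namespace Groth.Agent.FFLib

open FunFld Module WithZero IntermediateField

universe u v

variable {k : Type u} {K : Type v} [Field k] [Field K] [Algebra k K]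

/-- Linearly independent rows give spanning columns. -/
theorem span_cols_eq_top {R : Type*} [Field R] {m : ℕ} {f : Fin m → ℕ → R}
    (hf : LinearIndependent R f) :
    Submodule.span R (Set.range fun j => fun i => f i j) = (⊤ : Submodule R (Fin m → R)) := by
  classical
  by_contra h
  obtain ⟨φ, hφ0, hφ⟩ := Submodule.exists_le_ker_of_lt_top _ (lt_top_iff_ne_top.mpr h)
  refine hφ0 (LinearMap.ext fun v => ?_)
  have hrel : ∀ i, φ (Pi.single i 1) = 0 := by
    refine Fintype.linearIndependent_iff.mp hf _ (funext fun j => ?_)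
    simp only [Finset.sum_apply, Pi.smul_apply, smul_eq_mul, Pi.zero_apply]
    have := hφ (Submodule.subset_span ⟨j, rfl⟩)
    rw [LinearMap.mem_ker, LinearMap.pi_apply_eq_sum_univ φ] at this
    rw [← this]
    refine Finset.sum_congr rfl fun i _ => ?_
    rw [smul_eq_mul, mul_comm]
    congr 2
    ext a
    simp [Pi.single_apply, eq_comm]
  rw [LinearMap.pi_apply_eq_sum_univ φ v, LinearMap.zero_apply]
  refine Finset.sum_eq_zero fun i _ => ?_
  rw [show (fun a => if i = a then (1 : R) else 0) = Pi.single i 1 by ext a; simp [Pi.single_apply, eq_comm],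
    hrel, smul_zero]

/-- Selected columns are independent iff their determinant is nonzero. -/
theorem det_cols_ne_zero_iff {R : Type*} [Field R] {m : ℕ} (v : Fin m → Fin m → R) :
    (Matrix.of fun i l => v l i).det ≠ 0 ↔ LinearIndependent R v := by
  rw [← isUnit_iff_ne_zero, ← Matrix.isUnit_iff_isUnit_det, ← Matrix.linearIndependent_cols_iff_isUnit]
  exact Iff.rfl

/-- Jumps do not see a bijective change of scalars. -/
theorem isJump_scalars {R : Type*} [Field R] [Algebra k R] (hb : Function.Bijective (algebraMap k R))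
    {m : ℕ} (c : ℕ → Fin m → k) (j : ℕ) :
    IsJump R (fun j => fun i => algebraMap k R (c j i)) j ↔ IsJump k c j := by
  let g : (Fin m → k) ≃ₗ[k] (Fin m → R) :=
    LinearEquiv.piCongrRight fun _ => LinearEquiv.ofBijective (Algebra.linearMap k R) hb
  have hg : (fun j => fun i => algebraMap k R (c j i)) = fun j => g (c j) := rfl
  rw [hg, ← isJump_map g c j]
  show g (c j) ∉ Submodule.span R _ ↔ g (c j) ∉ Submodule.span k _
  rw [← Submodule.restrictScalars_span k R hb.2]
  exact Iff.rfl

section Scalars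

variable {R : Type*} [Field R] [Algebra k R]

/-- Independence of selected columns does not see a bijective change of scalars. -/
theorem linearIndependent_scalars (_hb : Function.Bijective (algebraMap k R)) {m : ℕ}
    (v : Fin m → Fin m → k) :
    LinearIndependent R (fun l => fun i => algebraMap k R (v l i)) ↔ LinearIndependent k v := by
  rw [← det_cols_ne_zero_iff, ← det_cols_ne_zero_iff]
  rw [show (Matrix.of fun i l => algebraMap k R (v l i)) =
    (algebraMap k R).mapMatrix (Matrix.of fun i l => v l i) from rfl, ← RingHom.map_det, ne_eq, ne_eq,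
    map_eq_zero]

end Scalars

variable [IsAlgClosed k] (hK : IsFunctionField k K) (P : Place k K)

/-- The power series read off an expansion. -/
noncomputable def ps (φ : K →ₐ[k] LaurentSeries k) (x : K) : PowerSeries k :=
  PowerSeries.mk fun n => (φ x).coeff n

include hK in
theorem res_bijective : Function.Bijective (algebraMap k (IsLocalRing.ResidueField P.O)) := by
  have : Algebra.IsIntegral k (Res P) :=
    @Algebra.IsIntegral.of_finite k (Res P) _ _ _ (residue_finite hK.1 P)
  exact IsAlgClosed.algebraMap_bijective_of_isIntegral (k := k) (K := Res P)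

include hK in
/-- An expansion in a given uniformiser. -/
theorem exists_expansion' {t : K} (ht : P.1 t = exp (-1 : ℤ)) :
    ∃ φ : K →ₐ[k] LaurentSeries k, LocRes.IsExpansionAt P.1 φ ∧ φ t = HahnSeries.single 1 1 := by
  obtain ⟨φ, h1, h2, -⟩ := exists_expansion hK.1 (deg_eq_one hK.1 P) ht
  exact ⟨φ, h1, h2⟩

include hK in
theorem residue_separable : Algebra.IsSeparable k (IsLocalRing.ResidueField P.O) := by
  refine ⟨fun a => ?_⟩
  obtain ⟨c, rfl⟩ := (res_bijective hK P).2 a
  exact isSeparable_algebraMap c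

include hK in
/-- A uniformiser is separating, so it has a Hasse family. -/
theorem exists_hasse_unif {t : K} (ht : P.1 t = exp (-1 : ℤ)) :
    ∃ H : K →ₐ[k] PowerSeries K, LocRes.IsHasseFamily t H := by
  have hg := isGeometric_of_perfect hK
  have htr := transcendental_of_ord_ne_zero P (x := t) (by rw [ord_of_val_eq P ht]; omega)
  have := IsFF.finite_adjoin hK.1 htr
  refine exists_hasse hK htr ?_
  obtain h0 | ⟨p, hp, hpk⟩ := CharP.exists' k
  · have := h0
    have : CharZero k⟮t⟯ := charZero_of_injective_algebraMap (algebraMap k k⟮t⟯).injective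
    infer_instance
  · have : CharP K p := charP_of_injective_algebraMap (algebraMap k K).injective p
    have := residue_separable hK P
    obtain ⟨x, hx, hsep⟩ := exists_separating_element hK hg
    exact isSeparable_of_notMem p hK hx hsep fun hm =>
      D_unif_ne_zero hK hg P ht (D_eq_zero_of_mem p hm)

variable {P} {φ : K →ₐ[k] LaurentSeries k} (hφ : LocRes.IsExpansionAt P.1 φ)

omit [IsAlgClosed k] in
theorem coeff_ps (φ : K →ₐ[k] LaurentSeries k) (x : K) (n : ℕ) :
    PowerSeries.coeff n (ps φ x) = (φ x).coeff n :=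
  PowerSeries.coeff_mk _ _

omit [IsAlgClosed k] in
theorem ps_add (x y : K) : ps φ (x + y) = ps φ x + ps φ y :=
  PowerSeries.ext fun n => by simp [coeff_ps]

omit [IsAlgClosed k] in
theorem ps_smul (c : k) (x : K) : ps φ (c • x) = c • ps φ x :=
  PowerSeries.ext fun n => by
    rw [coeff_ps, map_smul (PowerSeries.coeff n), coeff_ps, Algebra.smul_def, map_mul,
      LocRes.map_algebraMap, HahnSeries.C_mul_eq_smul, HahnSeries.coeff_smul]
    rfl

include hφ

omit [IsAlgClosed k] in
theorem coe_ps {x : K} (hx : P.1 x ≤ 1) : (ps φ x : LaurentSeries k) = φ x := by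
  obtain ⟨f, hf⟩ := (LaurentSeries.val_le_one_iff_eq_coe k (φ x)).mp ((hφ.1 x).trans_le hx)
  have : ps φ x = f := PowerSeries.ext fun n => by
    rw [coeff_ps, ← hf, PowerSeries.coeff_coe, if_neg (by omega), Int.natAbs_natCast]
  rw [this, hf]

omit [IsAlgClosed k] hφ in
theorem ps_eq_of_coe {x : K} {f : PowerSeries k} (h : φ x = (f : LaurentSeries k)) : ps φ x = f :=
  PowerSeries.ext fun n => by
    rw [coeff_ps, h, PowerSeries.coeff_coe, if_neg (by omega), Int.natAbs_natCast]

omit [IsAlgClosed k] in
theorem ps_mul {x y : K} (hx : P.1 x ≤ 1) (hy : P.1 y ≤ 1) : ps φ (x * y) = ps φ x * ps φ y :=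
  ps_eq_of_coe (by rw [map_mul, ← coe_ps hφ hx, ← coe_ps hφ hy, map_mul])

omit [IsAlgClosed k] in
theorem ps_algebraMap (c : k) : ps φ (algebraMap k K c) = PowerSeries.C c :=
  ps_eq_of_coe (by rw [LocRes.map_algebraMap, HahnSeries.ofPowerSeries_C]; rfl)

omit [IsAlgClosed k] in
theorem val_le_iff_coeff {x : K} (hx : P.1 x ≤ 1) (N : ℕ) :
    P.1 x ≤ exp (-(N : ℤ)) ↔ ∀ i < N, PowerSeries.coeff i (ps φ x) = 0 := by
  rw [← hφ.1 x, ← coe_ps hφ hx]
  exact LaurentSeries.intValuation_le_iff_coeff_lt_eq_zero k (ps φ x)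

omit [IsAlgClosed k] in
theorem val_eq_iff_coeff {x : K} (hx : P.1 x ≤ 1) (N : ℕ) :
    P.1 x = exp (-(N : ℤ)) ↔
      (∀ i < N, PowerSeries.coeff i (ps φ x) = 0) ∧ PowerSeries.coeff N (ps φ x) ≠ 0 := by
  constructor
  · intro h
    refine ⟨(val_le_iff_coeff hφ hx N).mp h.le, fun h0 => ?_⟩
    have := (val_le_iff_coeff hφ hx (N + 1)).mpr fun i hi => by
      rcases eq_or_lt_of_le (Nat.lt_succ_iff.mp hi) with rfl | hlt
      · exact h0
      · exact (val_le_iff_coeff hφ hx N).mp h.le i hlt
    rw [h, exp_le_exp] at this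
    omega
  · rintro ⟨h1, h2⟩
    refine le_antisymm ((val_le_iff_coeff hφ hx N).mpr h1) ?_
    by_contra hlt
    rw [not_le] at hlt
    have hx0 : x ≠ 0 := by
      rintro rfl
      exact h2 (by simp [coeff_ps])
    have : P.1 x ≤ exp (-((N + 1 : ℕ) : ℤ)) := by
      rw [val_eq_exp P hx0, exp_lt_exp] at hlt
      rw [val_eq_exp P hx0, exp_le_exp]
      omega
    exact h2 ((val_le_iff_coeff hφ hx (N + 1)).mp this N N.lt_succ_self)

include hK in
/-- The value at the place is the constant coefficient. -/
theorem evalP_eq {x : K} (hx : P.1 x ≤ 1) :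
    evalP P x = algebraMap k _ (PowerSeries.coeff 0 (ps φ x)) := by
  obtain ⟨c, hc⟩ := exists_value hK.1 (deg_eq_one hK.1 P) hx
  have hxc : P.1 (x - algebraMap k K c) ≤ exp (-((1 : ℕ) : ℤ)) := by
    rcases eq_or_ne (x - algebraMap k K c) 0 with h | h
    · simp [h]
    · rw [val_lt_one_iff P h] at hc
      rw [val_le_exp_iff P h]
      omega
  have h0 := (val_le_iff_coeff hφ hc.le 1).mp hxc 0 one_pos
  rw [sub_eq_add_neg, ← neg_one_smul k (algebraMap k K c), ps_add, ps_smul, ps_algebraMap hφ] at h0
  have hc0 : PowerSeries.coeff 0 (ps φ x) = c := by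
    simpa [sub_eq_zero, ← sub_eq_add_neg] using h0
  rw [hc0, evalP, dif_pos hx]
  refine sub_eq_zero.mp ?_
  show IsLocalRing.residue P.O _ - IsLocalRing.residue P.O _ = 0
  rw [← map_sub, IsLocalRing.residue_eq_zero_iff, Valuation.mem_maximalIdeal_iff]
  exact hc

include hK in
/-- Hasse derivatives preserve regularity and act coefficientwise. -/
theorem hasseD_spec {t : K} (hφt : φ t = HahnSeries.single 1 1) {H : K →ₐ[k] PowerSeries K}
    (hH : LocRes.IsHasseFamily t H) {x : K} (hx : P.1 x ≤ 1) (n : ℕ) :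
    P.1 (LocRes.hasseD H n x) ≤ 1 ∧ ps φ (LocRes.hasseD H n x) = psHasse n (ps φ x) := by
  have h := congrArg (PowerSeries.coeff n) (hasse_taylor hK (isGeometric_of_perfect hK) φ hφt hH x)
  rw [PowerSeries.coeff_map, ← coe_ps hφ hx, taylor_coe, PowerSeries.coeff_map] at h
  have hc : φ (LocRes.hasseD H n x) = ((psHasse n (ps φ x) : PowerSeries k) : LaurentSeries k) := by
    refine h.trans ?_
    show ((PowerSeries.coeff n (PowerSeries.mk fun i => psHasse i (ps φ x)) : PowerSeries k) :
      LaurentSeries k) = _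
    rw [PowerSeries.coeff_mk]
  refine ⟨?_, ps_eq_of_coe hc⟩
  rw [← hφ.1]
  exact (LaurentSeries.val_le_one_iff_eq_coe k _).mpr ⟨_, hc.symm⟩

include hK in
/-- The value of a Hasse derivative in the uniformiser is an expansion coefficient. -/
theorem evalP_hasseD {t : K} (hφt : φ t = HahnSeries.single 1 1) {H : K →ₐ[k] PowerSeries K}
    (hH : LocRes.IsHasseFamily t H) {x : K} (hx : P.1 x ≤ 1) (n : ℕ) :
    evalP P (LocRes.hasseD H n x) = algebraMap k _ (PowerSeries.coeff n (ps φ x)) := by
  obtain ⟨h1, h2⟩ := hasseD_spec hK hφ hφt hH hx n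
  rw [evalP_eq hK hφ h1, h2, coeff_psHasse, zero_add, Nat.choose_self, Nat.cast_one, one_mul]

omit [IsAlgClosed k] in
/-- Regular independent functions have independent expansions. -/
theorem linearIndependent_coeff {m : ℕ} {f : Fin m → K} (hf : LinearIndependent k f)
    (hint : ∀ i, P.1 (f i) ≤ 1) :
    LinearIndependent k (fun i => fun j : ℕ => PowerSeries.coeff j (ps φ (f i))) := by
  rw [Fintype.linearIndependent_iff] at hf ⊢
  intro g hg
  refine hf g ?_
  have h0 : ∀ j, PowerSeries.coeff j (∑ i, g i • ps φ (f i)) = 0 := fun j => by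
    simpa [Finset.sum_apply] using congrFun hg j
  have h1 : φ (∑ i, g i • f i) =
      ((∑ i, g i • ps φ (f i) : PowerSeries k) : LaurentSeries k) := by
    rw [map_sum, map_sum]
    refine Finset.sum_congr rfl fun i _ => ?_
    rw [Algebra.smul_def, map_mul, LocRes.map_algebraMap, ← coe_ps hφ (hint i),
      PowerSeries.smul_eq_C_mul, map_mul, HahnSeries.ofPowerSeries_C]
    rfl
  rw [PowerSeries.ext (ψ := 0) (fun j => (h0 j).trans (map_zero _).symm), map_zero] at h1
  exact (map_eq_zero φ).mp h1

end Groth.Agent.FFLib
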