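import Groth.Agent.FFLib.SV.DetVal
import Groth.Agent.FFLib.Res.Regular
import Mathlib.LinearAlgebra.Vandermonde

/-! The Weierstrass divisor: invariance, positivity, degree. -/

namespace Groth.Agent.FFLib

open FunFld Module WithZero IntermediateField

universe u v

variable {k : Type u} {K : Type v} [Field k] [Field K] [Algebra k K] [IsAlgClosed k]
  (hK : IsFunctionField k K)
include hK

theorem D_ne_of_hasse {s : K} {H : K →ₐ[k] PowerSeries K} (hH : LocRes.IsHasseFamily s H) :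
    KaehlerDifferential.D k K s ≠ 0 :=
  let ⟨htr, hsep⟩ := hasse_separating hK (isGeometric_of_perfect hK) hH
  D_ne_zero hK htr hsep

theorem divDiff_apply {Φ : Place k K → (K →ₐ[k] LaurentSeries k)}
    (hΦ : ∀ P, LocRes.IsExpansionAt P.1 (Φ P)) {v : K} (hv : KaehlerDifferential.D k K v ≠ 0) (P : Place k K) :
    divDiff Φ 1 v P = LocRes.ordDiff (Φ P) 1 v := by
  have := finite_ordDiff hK (isGeometric_of_perfect hK) (fun _ => k) Φ hΦ one_ne_zero hv
  rw [divDiff, dif_pos this]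
  rfl

theorem deg_divDiff {Φ : Place k K → (K →ₐ[k] LaurentSeries k)}
    (hΦ : ∀ P, LocRes.IsExpansionAt P.1 (Φ P)) {v : K} (hv : KaehlerDifferential.D k K v ≠ 0) :
    (divDiff Φ 1 v).deg = 2 * (genus k K : ℤ) - 2 := by
  obtain ⟨C, hC, hCd, -⟩ := exists_canonical_of_D_ne hK (isGeometric_of_perfect hK) (fun _ => k) Φ hΦ hv
  rw [show divDiff Φ 1 v = C from Finsupp.ext fun P => (divDiff_apply hK hΦ hv P).trans (hCd P).symm]
  exact deg_canonical hK hC

omit [IsAlgClosed k] hK in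
theorem hasseD_one_mul {t : K} {Ht : K →ₐ[k] PowerSeries K} (hHt : LocRes.IsHasseFamily t Ht) (a b : K) :
    LocRes.hasseD Ht 1 (a * b) = a * LocRes.hasseD Ht 1 b + b * LocRes.hasseD Ht 1 a := by
  rw [LocRes.hasseD_apply, map_mul, PowerSeries.coeff_one_mul, hHt.2, hHt.2, LocRes.hasseD_apply,
    LocRes.hasseD_apply]
  ring

/-- Differentials change with the first Hasse derivative. -/
theorem dExp_change {t : K} {Ht : K →ₐ[k] PowerSeries K} (hHt : LocRes.IsHasseFamily t Ht)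
    (φ : K →ₐ[k] LaurentSeries k) (y : K) :
    dExp φ y = φ (LocRes.hasseD Ht 1 y) * dExp φ t := by
  let f : K →+ LaurentSeries k :=
    { toFun := fun y => dExp φ y - φ (LocRes.hasseD Ht 1 y) * dExp φ t
      map_zero' := by simp
      map_add' := fun a b => by
        simp only [map_add, LocRes.hasseD_apply]
        ring }
  refine sub_eq_zero.mp (leibniz_eq_zero (k := k) (φ : K →+* LaurentSeries k) f (fun a b => ?_) (fun c => ?_)
    (hasse_separating hK (isGeometric_of_perfect hK) hHt).2 ?_ y)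
  · show dExp φ (a * b) - φ (LocRes.hasseD Ht 1 (a * b)) * dExp φ t =
      φ a * (dExp φ b - φ (LocRes.hasseD Ht 1 b) * dExp φ t) +
        φ b * (dExp φ a - φ (LocRes.hasseD Ht 1 a) * dExp φ t)
    rw [dExp_mul, hasseD_one_mul hHt, map_add, map_mul, map_mul]
    ring
  · show dExp φ (algebraMap k K c) - φ (LocRes.hasseD Ht 1 (algebraMap k K c)) * dExp φ t = 0
    rw [dExp_const, LocRes.hasseD_apply, Ht.commutes, PowerSeries.algebraMap_apply, PowerSeries.coeff_C,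
      if_neg one_ne_zero, map_zero, zero_mul, sub_zero]
  · show dExp φ t - φ (LocRes.hasseD Ht 1 t) * dExp φ t = 0
    rw [LocRes.hasseD_apply, hHt.1, map_add, PowerSeries.coeff_C, if_neg one_ne_zero, zero_add,
      PowerSeries.coeff_one_X, map_one, one_mul, sub_self]

theorem divDiff_change {Φ : Place k K → (K →ₐ[k] LaurentSeries k)}
    (hΦ : ∀ P, LocRes.IsExpansionAt P.1 (Φ P)) {s t : K} {Hs Ht : K →ₐ[k] PowerSeries K}
    (hHs : LocRes.IsHasseFamily s Hs) (hHt : LocRes.IsHasseFamily t Ht) :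
    divDiff Φ 1 s = FunFld.div k (LocRes.hasseD Ht 1 s) + divDiff Φ 1 t := by
  have hs := D_ne_of_hasse hK hHs
  have ht := D_ne_of_hasse hK hHt
  ext P
  rw [Finsupp.add_apply, divDiff_apply hK hΦ hs, divDiff_apply hK hΦ ht, div_apply hK.1]
  have hg := isGeometric_of_perfect hK
  have h1 : Valued.v (dExp (Φ P) t) ≠ 0 := (map_ne_zero _).mpr (dExp_ne_zero (hΦ P) hK hg ht)
  have h2 : P.1 (LocRes.hasseD Ht 1 s) ≠ 0 := val_ne_zero P (hasseD_one_ne_zero hK hHs hHt)
  show -log (Valued.v (Φ P 1 * dExp (Φ P) s)) = P.ord _ + -log (Valued.v (Φ P 1 * dExp (Φ P) t))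
  rw [map_one, one_mul, one_mul, dExp_change hK hHt (Φ P) s, map_mul, (hΦ P).1, log_mul h2 h1, Place.ord]
  ring

omit [IsAlgClosed k] in
theorem mapDiv_smul {n : ℕ} {φ : Fin (n + 1) → K} (hφ : ∀ i, φ i ≠ 0) {y : K} (hy : y ≠ 0) :
    FunFld.mapDiv k (y • φ) = FunFld.mapDiv k φ - FunFld.div k y := by
  ext P
  rw [Finsupp.sub_apply, mapDiv_apply hK.1, mapDiv_apply hK.1, div_apply hK.1]
  simp only [Pi.smul_apply, smul_eq_mul, ord_mul P hy (hφ _)]
  obtain ⟨i, -, hi⟩ := Finset.exists_mem_eq_inf' Finset.univ_nonempty (fun i => P.ord (φ i))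
  have h : Finset.univ.inf' Finset.univ_nonempty (fun i => P.ord y + P.ord (φ i)) =
      P.ord y + Finset.univ.inf' Finset.univ_nonempty (fun i => P.ord (φ i)) :=
    le_antisymm ((Finset.inf'_le _ (Finset.mem_univ i)).trans (by rw [hi]))
      ((Finset.le_inf'_iff _ _).mpr fun j hj => add_le_add_right (Finset.inf'_le _ hj) _)
  rw [h]; ring

omit [IsAlgClosed k] in
theorem mapDiv_le_of_comb {n : ℕ} {φ φ' : Fin (n + 1) → K} (hφ : ∀ i, φ i ≠ 0) (hφ' : ∀ i, φ' i ≠ 0)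
    {A : Matrix (Fin (n + 1)) (Fin (n + 1)) k} (h : ∀ i, φ' i = ∑ j, A i j • φ j) :
    FunFld.mapDiv k φ' ≤ FunFld.mapDiv k φ := fun P => by
  rw [mapDiv_apply hK.1, mapDiv_apply hK.1, neg_le_neg_iff, Finset.le_inf'_iff]
  intro i _
  set m := Finset.univ.inf' Finset.univ_nonempty (fun i => P.ord (φ i))
  have hle : P.1 (φ' i) ≤ exp (-m) := by
    rw [h]
    refine P.1.map_sum_le fun j _ => ?_
    rw [Algebra.smul_def, map_mul]
    refine (mul_le_mul' (P.2.1 _) le_rfl).trans ?_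
    rw [one_mul, val_le_exp_iff P (hφ j), neg_neg]
    exact Finset.inf'_le _ (Finset.mem_univ j)
  rwa [val_le_exp_iff P (hφ' i), neg_neg] at hle

omit [IsAlgClosed k] in
theorem mapDiv_linear {n : ℕ} {φ φ' : Fin (n + 1) → K} (hφ : ∀ i, φ i ≠ 0) (hφ' : ∀ i, φ' i ≠ 0)
    {A : Matrix (Fin (n + 1)) (Fin (n + 1)) k} (hA : A.det ≠ 0) (h : ∀ i, φ' i = ∑ j, A i j • φ j) :
    FunFld.mapDiv k φ' = FunFld.mapDiv k φ := by
  refine le_antisymm (mapDiv_le_of_comb hK hφ hφ' h) (mapDiv_le_of_comb hK hφ' hφ (A := A⁻¹) fun i => ?_)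
  simp only [h, Finset.smul_sum, smul_smul]
  rw [Finset.sum_comm]
  simp only [← Finset.sum_smul]
  rw [Finset.sum_eq_single i]
  · rw [show ∑ j, A⁻¹ i j * A j i = (A⁻¹ * A) i i from rfl, Matrix.nonsing_inv_mul _ (isUnit_iff_ne_zero.mpr hA),
      Matrix.one_apply_eq, one_smul]
  · intro j _ hj
    rw [show ∑ l, A⁻¹ i l * A l j = (A⁻¹ * A) i j from rfl,
      Matrix.nonsing_inv_mul _ (isUnit_iff_ne_zero.mpr hA), Matrix.one_apply_ne hj.symm, zero_smul]
  · exact fun h => absurd (Finset.mem_univ i) h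

variable {n : ℕ} {φ : Fin (n + 1) → K} (hφ : LinearIndependent k φ) (τ : K →ₐ[k] K)
  {s : K} {Hs : K →ₐ[k] PowerSeries K} (hHs : LocRes.IsHasseFamily s Hs)
  {t : K} {Ht : K →ₐ[k] PowerSeries K} (hHt : LocRes.IsHasseFamily t Ht) {y : K} (hy : y ≠ 0)

include hφ hy in
omit [IsAlgClosed k] hK in
theorem li_smul : LinearIndependent k (y • φ) :=
  hφ.map' (LinearMap.mulLeft k y) (LinearMap.ker_eq_bot.mpr (mul_right_injective₀ hy))

include hHs hHt hy

theorem orders_invariant (J : Fin n → ℕ) :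
    IsOrders K (hcol τ Ht (y • φ)) J ↔ IsOrders K (hcol τ Hs φ) J := by
  have h0 := hasseD_one_ne_zero hK hHs hHt
  have hd : ∀ j : ℕ, (if j = 0 then τ y else y) ≠ 0 := fun j => by
    split
    · exact (map_ne_zero τ).mpr hy
    · exact hy
  refine (isOrders_congr (fun j => (jumps_of_triangular _ hd (smul_triangular τ hHt.2)).2 _) J).trans ?_
  exact isOrders_congr (fun j => (jumps_of_triangular _ (fun i => pow_ne_zero _ h0)
    (change_triangular hK τ hHs hHt)).2 _) J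

include hφ
omit hy in
theorem det_invariant {J : Fin n → ℕ} (hJ : IsOrders K (hcol τ Hs φ) J) :
    (wrMat τ Ht (y • φ) J).det =
      τ y * y ^ n * LocRes.hasseD Ht 1 s ^ (∑ l, J l) * (wrMat τ Hs φ J).det := by
  have hne := hcol_zero_ne hφ τ Hs
  have h0 := hasseD_one_ne_zero hK hHs hHt
  have hJt : IsOrders K (hcol τ Ht φ) J :=
    (isOrders_congr (fun j => (jumps_of_triangular _ (fun i => pow_ne_zero _ h0)
      (change_triangular hK τ hHs hHt)).2 _) J).mpr hJ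
  rw [wrMat_eq, det_triangular_cols hJt (hcol_zero_ne hφ τ Ht) _ (smul_triangular τ hHt.2),
    det_triangular_cols hJ hne _ (change_triangular hK τ hHs hHt), wrMat_eq, Fin.prod_univ_succ,
    Fin.prod_univ_succ]
  simp only [jumpIdx_zero, jumpIdx_succ, if_true, Nat.add_sub_cancel, Nat.succ_ne_zero, if_false,
    Finset.prod_const, Finset.card_univ, Fintype.card_fin, Finset.prod_pow_eq_pow_sum]
  ring

/-- Invariance of the Weierstrass divisor under scaling and change of the variable. -/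
theorem wDiv_smul_change {Φ : Place k K → (K →ₐ[k] LaurentSeries k)}
    (hΦ : ∀ P, LocRes.IsExpansionAt P.1 (Φ P)) {J : Fin n → ℕ} (hJ : IsOrders K (hcol τ Hs φ) J) :
    wDiv τ Ht Φ t (y • φ) J = wDiv τ Hs Φ s φ J := by
  have hne : ∀ i, φ i ≠ 0 := hφ.ne_zero
  have hd0 := det_wrMat_ne_zero hφ τ hJ
  have hu := hasseD_one_ne_zero hK hHs hHt
  ext P
  simp only [wDiv]
  rw [det_invariant hK hφ τ hHs hHt hJ, mapDiv_smul hK hne hy,
    show τ ∘ (y • φ) = τ y • (τ ∘ φ) from funext fun i => map_mul τ y (φ i),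
    mapDiv_smul hK (φ := τ ∘ φ) (fun i => (map_ne_zero τ).mpr (hne i)) ((map_ne_zero τ).mpr hy),
    divDiff_change hK hΦ hHs hHt]
  simp only [Finsupp.add_apply, Finsupp.smul_apply, Finsupp.sub_apply, div_apply hK.1, smul_eq_mul]
  have hτy : τ y ≠ 0 := (map_ne_zero τ).mpr hy
  rw [ord_mul P (mul_ne_zero (mul_ne_zero hτy (pow_ne_zero _ hy)) (pow_ne_zero _ hu)) hd0,
    ord_mul P (mul_ne_zero hτy (pow_ne_zero _ hy)) (pow_ne_zero _ hu),
    ord_mul P hτy (pow_ne_zero _ hy), ord_pow, ord_pow]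
  push_cast
  ring

omit hHt hy

omit hHs in
/-- Normalising at a place. -/
theorem exists_normalized (P : Place k K) :
    ∃ (y t : K) (Ht : K →ₐ[k] PowerSeries K), y ≠ 0 ∧ P.1 t = exp (-1 : ℤ) ∧ LocRes.IsHasseFamily t Ht ∧
      (∃ j, y = (φ j)⁻¹) ∧
      (1 : K) ∈ Submodule.span k (Set.range (y • φ)) ∧ (∀ i, P.1 ((y • φ) i) ≤ 1) ∧
      FunFld.mapDiv k (y • φ) P = 0 := by
  obtain ⟨j, -, hj⟩ := Finset.exists_mem_eq_inf' Finset.univ_nonempty (fun i => P.ord (φ i))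
  obtain ⟨t, -, ht⟩ := exists_unif P
  obtain ⟨Ht, hHt⟩ := exists_hasse_unif hK P ht
  have hj0 := hφ.ne_zero j
  have hy : (φ j)⁻¹ ≠ 0 := inv_ne_zero hj0
  refine ⟨(φ j)⁻¹, t, Ht, hy, ht, hHt, ⟨j, rfl⟩, Submodule.subset_span ⟨j, inv_mul_cancel₀ hj0⟩, fun i => ?_, ?_⟩
  · show P.1 ((φ j)⁻¹ * φ i) ≤ 1
    rw [val_le_one_iff P (mul_ne_zero hy (hφ.ne_zero i)), ord_mul P hy (hφ.ne_zero i), ord_inv]
    have : P.ord (φ j) ≤ P.ord (φ i) := hj ▸ Finset.inf'_le _ (Finset.mem_univ i)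
    omega
  · rw [mapDiv_smul hK hφ.ne_zero hy, Finsupp.sub_apply, mapDiv_apply hK.1, div_apply hK.1, ord_inv, hj]
    ring

variable {Φ : Place k K → (K →ₐ[k] LaurentSeries k)} (hΦ : ∀ P, LocRes.IsExpansionAt P.1 (Φ P))
  {J : Fin n → ℕ} (hJ : IsOrders K (hcol τ Hs φ) J)
include hΦ hJ

theorem wDiv_nonneg : 0 ≤ wDiv τ Hs Φ s φ J := by
  classical
  intro P
  obtain ⟨y, t, Ht, hy, ht, hHt, -, -, hint, hmap⟩ := exists_normalized hK hφ P
  rw [Finsupp.zero_apply, ← wDiv_smul_change hK hφ τ hHs hHt hy hΦ hJ]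
  obtain ⟨ψ, hψ, hψt⟩ := exists_expansion' hK P ht
  have hd0 := det_wrMat_ne_zero (li_smul hφ hy) τ ((orders_invariant hK τ hHs hHt hy J).mpr hJ)
  simp only [wDiv, Finsupp.add_apply, Finsupp.smul_apply, div_apply hK.1, hmap,
    divDiff_apply hK hΦ (D_ne_of_hasse hK hHt), ordDiff_unif (hΦ P) ht, smul_zero, add_zero]
  set m := FunFld.mapDiv k (τ ∘ (y • φ)) P with hm
  have hcol0 : ∀ i, P.1 (τ ((y • φ) i)) ≤ exp m := fun i => by
    rw [val_le_exp_iff P ((map_ne_zero τ).mpr ((li_smul hφ hy).ne_zero i)), hm, mapDiv_apply hK.1, neg_neg]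
    exact Finset.inf'_le _ (Finset.mem_univ i)
  have hle : P.1 (wrMat τ Ht (y • φ) J).det ≤ exp m := by
    rw [Matrix.det_succ_column_zero]
    refine P.1.map_sum_le fun i _ => ?_
    rw [map_mul, map_mul]
    refine le_trans (mul_le_mul' (mul_le_mul' ?_ (hcol0 i)) ?_) (le_of_eq (by rw [one_mul, mul_one]))
    · rw [map_pow, P.1.map_neg, map_one, one_pow]
    · rw [Matrix.det_apply']
      refine P.1.map_sum_le fun σ _ => ?_
      rw [map_mul, map_prod]
      refine mul_le_one' ?_ (Finset.prod_le_one' fun a _ => ?_)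
      · rcases Int.units_eq_one_or (Equiv.Perm.sign σ) with h | h <;> simp [h]
      · exact (hasseD_spec hK hψ hψt hHt (hint _) _).1
  rw [val_le_exp_iff P hd0] at hle
  omega

omit hφ hJ in
theorem deg_wDiv :
    (wDiv τ Hs Φ s φ J).deg = ((Module.finrank τ.fieldRange K : ℤ) + n) * (FunFld.mapDiv k φ).deg +
      (2 * (genus k K : ℤ) - 2) * ∑ l, (J l : ℤ) := by
  have hsmul : ∀ (c : ℤ) (D : Divisor k K), (c • D).deg = c * D.deg := fun c D => by
    induction c using Int.induction_on with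
    | zero => simp
    | succ i ih => rw [add_smul, one_smul, Divisor.deg_add, ih]; ring
    | pred i ih => rw [sub_smul, one_smul, Divisor.deg_sub, ih]; ring
  rw [wDiv, Divisor.deg_add, Divisor.deg_add, Divisor.deg_add, hsmul, hsmul, deg_div hK.1,
    deg_mapDiv_algHom hK.1 τ φ, deg_divDiff hK hΦ (D_ne_of_hasse hK hHs)]
  ring

end Groth.Agent.FFLib
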