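import Groth.Agent.FFLib.SV.Fixed
import Groth.Agent.FFLib.Ext
import Groth.Agent.FFLib.Local.Expansion

/-! Automorphisms and their fixed places. -/

namespace Groth.Agent.FFLib

open FunFld WithZero IntermediateField

universe u v

variable {k : Type u} {K : Type v} [Field k] [Field K] [Algebra k K] [IsAlgClosed k]
  (hK : IsFunctionField k K)

omit [IsAlgClosed k] in
/-- A fixed place is invariant. -/
theorem placeComap_eq_of_fixed {σ : K ≃ₐ[k] K} {P : Place k K}
    (h : ∀ x : K, P.1 x < 1 → P.1 (σ x) < 1) : placeComap σ P = P := by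
  refine place_eq_of_le fun x hx => ?_
  rw [placeComap_apply] at hx
  by_contra hlt
  rw [not_le] at hlt
  have h2 := h x⁻¹ (by rw [map_inv₀]; exact inv_lt_one_of_one_lt₀ hlt)
  rw [map_inv₀, map_inv₀, inv_lt_one₀ (zero_lt_iff.mpr (fun e => ?_))] at h2
  · exact h2.not_ge hx
  · rw [map_eq_zero, map_eq_zero_iff _ σ.injective] at e
    simp [e] at hlt

omit [IsAlgClosed k] in
theorem fixed_iff {σ : K ≃ₐ[k] K} {P : Place k K} :
    (∀ x : K, P.1 x < 1 → P.1 (σ x) < 1) ↔ placeComap σ P = P := by
  refine ⟨placeComap_eq_of_fixed, fun h x hx => ?_⟩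
  rw [← placeComap_apply, h]
  exact hx

include hK

theorem infinite_places : Infinite (Place k K) := by
  obtain ⟨x, hx, -⟩ := hK.1
  have hc : ∀ c : k, ∃ P : Place k K, P.1 (x - algebraMap k K c) < 1 := fun c => by
    refine exists_place_zero hK.1 (x := x - algebraMap k K c) fun halg => hx ?_
    simpa using halg.add (isAlgebraic_algebraMap c)
  choose f hf using hc
  refine Infinite.of_injective f fun a b hab => ?_
  by_contra hne
  have h2 := Valuation.map_sub_lt (f a).1 (hf a) (hab ▸ hf b)
  rw [sub_sub_sub_cancel_left, ← map_sub, val_algebraMap _ (sub_ne_zero.mpr (Ne.symm hne))] at h2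
  exact lt_irrefl _ h2

/-- An automorphism fixing more than `2g+2` places is trivial. -/
theorem eq_one_of_lt_fixed (σ : K ≃ₐ[k] K)
    (h : ((2 * genus k K + 2 : ℕ) : ℕ∞) <
      Set.encard {P : Place k K | ∀ x : K, P.1 x < 1 → P.1 (σ x) < 1}) : σ = 1 := by
  classical
  obtain ⟨S, hS, hcard⟩ := Set.exists_subset_encard_eq (k := ((2 * genus k K + 3 : ℕ) : ℕ∞))
    (Order.add_one_le_of_lt h)
  have hSfin : S.Finite := Set.finite_of_encard_eq_coe hcard
  obtain ⟨T, rfl⟩ := hSfin.exists_finset_coe
  rw [Set.encard_coe_eq_coe_finsetCard, Nat.cast_inj] at hcard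
  have hval : ∀ (P : Place k K), placeComap σ P = P → ∀ x : K, P.1 x ≤ 1 → P.1 (x - σ x) < 1 := by
    intro P hP x hx
    obtain ⟨c, hc⟩ := exists_value hK.1 (deg_eq_one hK.1 P) hx
    have hc' : P.1 (σ x - algebraMap k K c) < 1 := by
      rw [← σ.commutes c, ← map_sub, ← placeComap_apply, hP]; exact hc
    have := Valuation.map_sub_lt P.1 hc hc'
    simpa using this
  by_cases hall : ∀ Q : Place k K, placeComap σ Q = Q
  · refine AlgEquiv.ext fun z => ?_
    by_contra hne
    have hf : z - σ z ≠ 0 := sub_ne_zero.mpr fun e => hne (by rw [AlgEquiv.one_apply, ← e])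
    have h1 := finite_support_ord (k := k) hK.1 (z - σ z)
    have h2 := finite_support_ord (k := k) hK.1 z
    have := infinite_places hK
    obtain ⟨P, hP⟩ := Infinite.exists_notMem_finset (h1.toFinset ∪ h2.toFinset)
    simp only [Finset.mem_union, Set.Finite.mem_toFinset, Function.mem_support, not_or, not_not] at hP
    have h3 := hval P (hall P) z (by
      rcases eq_or_ne z 0 with rfl | hz
      · simp
      · rw [val_le_one_iff P hz, hP.2])
    rw [val_lt_one_iff P hf, hP.1] at h3
    exact lt_irrefl _ h3
  obtain ⟨Q, hQ⟩ := not_forall.mp hall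
  exfalso
  have hQT : Q ∉ T := fun hm => hQ (placeComap_eq_of_fixed (hS hm))
  set m : ℕ := genus k K + 1
  have hell : 1 < ell (Finsupp.single Q (m : ℤ)) := by
    have := riemann hK.1 (Finsupp.single Q (m : ℤ))
    rw [Divisor.deg_single, deg_eq_one hK.1 Q] at this
    omega
  have hnot : ¬ L (Finsupp.single Q (m : ℤ)) ≤ L (0 : Divisor k K) := fun hle => by
    have := L_finite hK.1 (0 : Divisor k K)
    have := Submodule.finrank_mono hle
    have h1 := ell_zero hK
    simp only [ell] at hell h1 this
    omega
  obtain ⟨x, hx, hx0⟩ := SetLike.not_le_iff_exists.mp hnot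
  have hxQ : 1 < Q.1 x := by
    by_contra hle
    refine hx0 (fun P => ?_)
    rw [Finsupp.coe_zero, Pi.zero_apply, exp_zero]
    rcases eq_or_ne P Q with rfl | hne
    · exact not_lt.mp hle
    · simpa [Finsupp.single_eq_of_ne hne] using hx P
  have hxP : ∀ P, P ≠ Q → P.1 x ≤ 1 := fun P hne => by
    simpa [Finsupp.single_eq_of_ne hne] using hx P
  set Q' := placeComap σ.symm Q
  set D : Divisor k K := Finsupp.single Q (m : ℤ) + Finsupp.single Q' (m : ℤ) -
    ∑ P ∈ T, Finsupp.single P 1
  have hD : D.deg < 0 := by
    have e : (∑ P ∈ T, Finsupp.single P (1 : ℤ) : Divisor k K).deg = (T.card : ℤ) := by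
      clear_value m Q'
      clear D hx hxQ hxP hQT hS hcard hSfin h hx0
      induction T using Finset.induction_on with
      | empty => simp [Divisor.deg_zero]
      | insert a T ha ih =>
        rw [Finset.sum_insert ha, Finset.card_insert_of_notMem ha, Divisor.deg_add, ih,
          Divisor.deg_single, deg_eq_one hK.1]
        push_cast; ring
    rw [Divisor.deg_sub, Divisor.deg_add, Divisor.deg_single, Divisor.deg_single, deg_eq_one hK.1,
      deg_eq_one hK.1, e]
    omega
  have hf : x - σ x ∈ L D := by
    intro P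
    by_cases hPT : P ∈ T
    · have hfix := placeComap_eq_of_fixed (hS hPT)
      have hPQ : P ≠ Q := fun e => hQT (e ▸ hPT)
      have hPQ' : P ≠ Q' := fun e => hQ (by
        have : placeComap σ P = Q := by
          rw [e]; apply Subtype.ext; apply Valuation.ext; intro y
          show Q.1 (σ.symm (σ y)) = Q.1 y
          rw [σ.symm_apply_apply]
        rw [← this, hfix, hfix])
      have h3 := hval P hfix x (hxP P hPQ)
      have : D P = -1 := by
        simp only [D, Finsupp.sub_apply, Finsupp.add_apply, Finsupp.finsetSum_apply,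
          Finsupp.single_eq_of_ne hPQ, Finsupp.single_eq_of_ne hPQ']
        simp [Finsupp.single_apply, hPT]
      rw [this]
      rcases eq_or_ne (x - σ x) 0 with e | e
      · rw [e, map_zero]; exact zero_le
      · rw [val_lt_one_iff P e] at h3
        rw [val_le_exp_iff P e]; omega
    · refine (P.1.map_sub x (σ x)).trans ?_
      have hb : D P = Finsupp.single Q (m : ℤ) P + Finsupp.single Q' (m : ℤ) P := by
        simp only [D, Finsupp.sub_apply, Finsupp.add_apply, Finsupp.finsetSum_apply]
        rw [Finset.sum_eq_zero fun R hR => Finsupp.single_eq_of_ne (show P ≠ R from fun e => hPT (by rw [e]; exact hR)), sub_zero]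
      rw [hb]
      refine max_le ((hx P).trans (exp_le_exp.mpr ?_)) ?_
      · exact le_add_of_nonneg_right (Finsupp.single_nonneg.mpr (by positivity) P)
      · rw [← placeComap_apply]
        refine (hx _).trans (exp_le_exp.mpr ?_)
        have hnn : (0 : ℤ) ≤ Finsupp.single Q (m : ℤ) P := Finsupp.single_nonneg.mpr (by positivity) P
        by_cases e : placeComap σ P = Q
        · have : P = Q' := by
            simp only [Q', ← e]; apply Subtype.ext; apply Valuation.ext; intro y
            show P.1 y = P.1 (σ (σ.symm y))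
            rw [σ.apply_symm_apply]
          rw [e, ← this]
          simp
          omega
        · rw [Finsupp.single_eq_of_ne e]
          have : (0 : ℤ) ≤ Finsupp.single Q' (m : ℤ) P := Finsupp.single_nonneg.mpr (by positivity) P
          omega
  have h0 : L D = ⊥ := by
    have := L_finite hK.1 D
    exact Submodule.finrank_eq_zero.mp (ell_eq_zero_of_deg_neg hK.1 hD)
  rw [h0, Submodule.mem_bot, sub_eq_zero] at hf
  refine hQ ?_
  by_contra hne
  have := hxP (placeComap σ Q) hne
  rw [placeComap_apply, ← hf] at this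
  exact this.not_gt hxQ

end Groth.Agent.FFLib
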