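import Groth.Agent.FFLib.SV.WDiv

/-! Orders at a place are bounded by the degree; binomial determinants. -/

namespace Groth.Agent.FFLib

open FunFld Module WithZero

universe u v

theorem det_choose_ne_zero {k : Type*} [Field k] {n : ℕ} (v : Fin n → ℕ)
    (hv : Function.Injective fun i => (v i : k)) :
    (Matrix.of fun i j : Fin n => ((Nat.choose (v i) j : ℕ) : k)).det ≠ 0 := by
  intro h
  have h1 := Matrix.det_vandermonde_ne_zero_iff.mpr hv
  rw [Matrix.det_eval_matrixOfPolynomials_eq_det_vandermonde _ (fun i : Fin n => descPochhammer k i)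
    (fun i => descPochhammer_natDegree k i) (fun i => monic_descPochhammer k i)] at h1
  refine h1 ?_
  rw [show (Matrix.of fun i j : Fin n => (descPochhammer k j).eval (v i : k)) =
    Matrix.of fun i j : Fin n => ((Nat.factorial (j : ℕ) : ℕ) : k) *
      (Matrix.of fun i j : Fin n => ((Nat.choose (v i) j : ℕ) : k)) i j from by
    ext i j
    rw [Matrix.of_apply, Matrix.of_apply, Matrix.of_apply, descPochhammer_eval_eq_descFactorial,
      Nat.descFactorial_eq_factorial_mul_choose, Nat.cast_mul]]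
  exact (Matrix.det_mul_row _ _).trans (by rw [h, mul_zero])

theorem natCast_injOn {k : Type*} [Field k] {d : ℤ} (hchar : ringChar k = 0 ∨ d < ringChar k)
    {a b : ℕ} (ha : (a : ℤ) ≤ d) (hb : (b : ℤ) ≤ d) (h : (a : k) = b) : a = b := by
  have hc := ringChar.charP k
  rw [CharP.natCast_eq_natCast k (ringChar k)] at h
  rcases hchar with h0 | hlt
  · rw [h0] at h; exact Nat.modEq_zero_iff.mp h
  · exact Nat.ModEq.eq_of_lt_of_lt h (by omega) (by omega)

variable {k : Type u} {K : Type v} [Field k] [Field K] [Algebra k K] [IsAlgClosed k]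
  (hK : IsFunctionField k K) {n : ℕ} {φ : Fin (n + 1) → K} (hφ : LinearIndependent k φ)
include hK hφ

/-- Orders at a place are at most the degree of the map. -/
theorem orderAt_le_deg {P : Place k K} (heff : (1 : K) ∈ Submodule.span k (Set.range φ))
    (hint : ∀ i, P.1 (φ i) ≤ 1) (hmap : FunFld.mapDiv k φ P = 0)
    {ψ : K →ₐ[k] LaurentSeries k} (hψ : LocRes.IsExpansionAt P.1 ψ) {J' : Fin n → ℕ}
    (hJ' : IsOrders k (pcol ψ φ) J') (l : Fin n) : (J' l : ℤ) ≤ (FunFld.mapDiv k φ).deg := by
  classical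
  obtain ⟨f, hf, hv⟩ := (mem_orders_iff hψ hint hJ' heff _).mp (Or.inr ⟨l, rfl⟩)
  have hf0 : f ≠ 0 := fun e => by rw [e, map_zero] at hv; exact exp_ne_zero hv.symm
  obtain ⟨a, ha⟩ := (Submodule.mem_span_range_iff_exists_fun k).mp hf
  have hL : ∀ Q : Place k K, Q.1 f ≤ exp (FunFld.mapDiv k φ Q) := fun Q => by
    rw [← ha, mapDiv_apply hK.1]
    refine Q.1.map_sum_le fun i _ => ?_
    rw [Algebra.smul_def, map_mul]
    refine (mul_le_mul' (Q.2.1 _) le_rfl).trans ?_
    rw [one_mul, val_le_exp_iff Q (hφ.ne_zero i), neg_neg]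
    exact Finset.inf'_le _ (Finset.mem_univ i)
  have hE : (0 : Divisor k K) ≤ FunFld.mapDiv k φ + FunFld.div k f - Finsupp.single P (J' l : ℤ) := fun Q => by
    have := (val_le_exp_iff Q hf0 _).mp (hL Q)
    rw [Finsupp.sub_apply, Finsupp.add_apply, div_apply hK.1, Finsupp.single_apply, Finsupp.zero_apply]
    split_ifs with h
    · subst h; rw [hmap, ord_of_val_eq P hv]; omega
    · omega
  have := Divisor.deg_nonneg hE
  rw [Divisor.deg_sub, Divisor.deg_add, deg_div hK.1, Divisor.deg_single, deg_eq_one hK.1 P] at this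
  omega

end Groth.Agent.FFLib
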