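import Groth.Agent.FFLib.SV.OrdersAt
import Groth.Agent.FFLib.MapDiv
import Mathlib.LinearAlgebra.Matrix.Determinant.Basic

/-! The valuation of a Wronskian at a fixed place. -/

namespace Groth.Agent.FFLib

open FunFld Module WithZero

universe u v

variable {k : Type u} {K : Type v} [Field k] [Field K] [Algebra k K]

/-- Wronskian matrices of linearly related tuples. -/
theorem wrMat_linear {n : ℕ} (τ : K →ₐ[k] K) (H : K →ₐ[k] PowerSeries K) {φ φ' : Fin (n + 1) → K}
    {A : Matrix (Fin (n + 1)) (Fin (n + 1)) k} (h : ∀ i, φ i = ∑ l, A i l • φ' l) (I : Fin n → ℕ) :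
    wrMat τ H φ I = A.map (algebraMap k K) * wrMat τ H φ' I := by
  ext i c
  rw [Matrix.mul_apply]
  induction c using Fin.cases with
  | zero =>
    show τ (φ i) = ∑ l, algebraMap k K (A i l) * τ (φ' l)
    rw [h, map_sum]
    exact Finset.sum_congr rfl fun l _ => by rw [map_smul, Algebra.smul_def]
  | succ c =>
    show LocRes.hasseD H (I c) (φ i) = ∑ l, algebraMap k K (A i l) * LocRes.hasseD H (I c) (φ' l)
    rw [h, LocRes.hasseD_apply, map_sum, map_sum]
    refine Finset.sum_congr rfl fun l _ => ?_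
    rw [map_smul, ← IsScalarTower.algebraMap_smul K (A i l) (H (φ' l)), map_smul, smul_eq_mul]
    rfl

variable [IsAlgClosed k] (hK : IsFunctionField k K) {τ : K →ₐ[k] K} {P : Place k K}
  (hP : IsFixedPt τ P) {ψ : K →ₐ[k] LaurentSeries k} (hψ : LocRes.IsExpansionAt P.1 ψ)
  {t : K} (ht : P.1 t = exp (-1 : ℤ))

omit [IsAlgClosed k] in
include hP in
/-- Functions vanishing at a fixed place keep their order of vanishing. -/
theorem fixed_val_le (ht : P.1 t = exp (-1 : ℤ)) {x : K} {j : ℕ} (hj : 1 ≤ j)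
    (hx : P.1 x ≤ exp (-(j : ℤ))) :
    P.1 (τ x) ≤ exp (-(j : ℤ)) ∧ (IsStrongFixedPt τ P → P.1 (τ x) ≤ exp (-(2 * j : ℤ))) := by
  have ht0 : t ≠ 0 := fun e => by rw [e, map_zero] at ht; exact exp_ne_zero ht.symm
  obtain ⟨i, rfl⟩ : ∃ i, j = i + 1 := ⟨j - 1, by omega⟩
  set q := x / t ^ i with hq
  have hxq : x = t ^ i * q := by rw [hq, mul_div_cancel₀ _ (pow_ne_zero _ ht0)]
  have hq1 : P.1 q < 1 := by
    rw [hq, map_div₀, map_pow, ht, ← exp_nsmul, div_lt_one₀ (zero_lt_iff.mpr exp_ne_zero)]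
    refine hx.trans_lt ?_
    rw [exp_lt_exp, nsmul_eq_mul]
    push_cast
    omega
  have hle : ∀ {z : K}, P.1 z < 1 → P.1 z ≤ exp (-1 : ℤ) := fun {z} hz => by
    rcases eq_or_ne z 0 with rfl | h
    · simp
    · rw [val_lt_one_iff P h] at hz
      rw [val_le_exp_iff P h]
      omega
  have hpow : P.1 t < 1 := by rw [ht, ← exp_zero, exp_lt_exp]; norm_num
  constructor
  · rw [hxq, map_mul, map_pow, map_mul, map_pow,
      show (-((i + 1 : ℕ) : ℤ)) = i • (-1 : ℤ) + (-1) by rw [nsmul_eq_mul]; push_cast; ring, exp_add,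
      exp_nsmul]
    exact mul_le_mul' (pow_le_pow_left₀ zero_le (hle (hP t hpow)) i) (hle (hP q hq1))
  · intro hs
    rw [hxq, map_mul, map_pow, map_mul, map_pow,
      show (-(2 * ((i + 1 : ℕ) : ℤ))) = i • (-2 : ℤ) + (-2) by rw [nsmul_eq_mul]; push_cast; ring,
      exp_add, exp_nsmul]
    exact mul_le_mul' (pow_le_pow_left₀ zero_le (hs t hpow) i) (hs q hq1)

include hK hψ hP in
theorem fixed_ps_zero {x : K} (hx : P.1 x ≤ 1) :
    P.1 (τ x) ≤ 1 ∧ PowerSeries.coeff 0 (ps ψ (τ x)) = PowerSeries.coeff 0 (ps ψ x) := by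
  obtain ⟨c, hc⟩ := exists_value hK.1 (deg_eq_one hK.1 P) hx
  have hτc := hP _ hc
  have hsplit : τ x = algebraMap k K c + τ (x - algebraMap k K c) := by
    rw [map_sub, τ.commutes]; ring
  have hsplit' : x = algebraMap k K c + (x - algebraMap k K c) := by ring
  have h0 : ∀ {z : K}, P.1 z < 1 → PowerSeries.coeff 0 (ps ψ z) = 0 := fun {z} hz => by
    refine (val_le_iff_coeff hψ hz.le 1).mp ?_ 0 one_pos
    rcases eq_or_ne z 0 with rfl | h
    · simp
    · rw [val_lt_one_iff P h] at hz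
      rw [val_le_exp_iff P h]
      push_cast
      omega
  refine ⟨by rw [hsplit]; exact (P.1.map_add _ _).trans (max_le (P.2.1 c) hτc.le), ?_⟩
  rw [hsplit, ps_add, map_add, h0 hτc]
  conv_rhs => rw [hsplit', ps_add, map_add, h0 hc]

/-- The exponents attached to an order sequence. -/
def withZero {n : ℕ} (J : Fin n → ℕ) : Fin (n + 1) → ℕ := Fin.cases 0 J

variable {n : ℕ} {φ : Fin (n + 1) → K} (hint : ∀ i, P.1 (φ i) ≤ 1) (hψt : ψ t = HahnSeries.single 1 1)
  {Ht : K →ₐ[k] PowerSeries K} (hHt : LocRes.IsHasseFamily t Ht)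

include hK hP hψ ht hint hψt hHt in
/-- The valuation of a Wronskian at a fixed place. -/
theorem val_det_wrMat {J : Fin n → ℕ} (hJ : IsOrders k (pcol ψ φ) J) (hφ : LinearIndependent k φ)
    (heff : (1 : K) ∈ Submodule.span k (Set.range φ)) (I : Fin n → ℕ) :
    P.1 (wrMat τ Ht φ I).det ≤ exp (-(∑ l, ((J l : ℤ) - I l))) ∧
      (((∀ l, 0 < I l) ∨ IsStrongFixedPt τ P) →
        (P.1 (wrMat τ Ht φ I).det = exp (-(∑ l, ((J l : ℤ) - I l))) ↔ (binomMat k J I).det ≠ 0)) := by
  classical
  obtain ⟨φ', A, -, -, hA, hφA, h0, hle, hl⟩ := exists_adapted hψ hint hJ hφ heff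
  have hdetA : P.1 (wrMat τ Ht φ I).det = P.1 (wrMat τ Ht φ' I).det := by
    rw [wrMat_linear τ Ht hφA I, Matrix.det_mul, map_mul,
      show (A.map (algebraMap k K)).det = algebraMap k K A.det from (RingHom.map_det _ A).symm,
      val_algebraMap P hA, one_mul]
  rw [hdetA]
  set y := (wrMat τ Ht φ' I).det
  set a := withZero J
  set b := withZero I
  let M : Matrix (Fin (n + 1)) (Fin (n + 1)) (PowerSeries k) :=
    Matrix.of fun r c => ps ψ (wrMat τ Ht φ' I r c)
  have hent : ∀ r c, P.1 (wrMat τ Ht φ' I r c) ≤ 1 := by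
    intro r c
    induction c using Fin.cases with
    | zero => exact (fixed_ps_zero hK hP hψ (hle r)).1
    | succ c => exact (hasseD_spec hK hψ hψt hHt (hle r) _).1
  have hlow : ∀ r c, ∀ i < a r, PowerSeries.coeff i (M r c * PowerSeries.X ^ b c) = 0 := by
    intro r c i hi
    induction r using Fin.cases with
    | zero => exact absurd hi (Nat.not_lt_zero i)
    | succ r =>
      have hi : i < J r := hi
      induction c using Fin.cases with
      | zero =>
        rw [show b 0 = 0 from rfl, pow_zero, mul_one]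
        exact (val_le_iff_coeff hψ (hent r.succ 0) (J r)).mp
          (fixed_val_le hP ht (orderAt_pos hJ r) (hl r).1.le).1 i hi
      | succ c =>
        rw [show b c.succ = I c from rfl, PowerSeries.coeff_mul_X_pow']
        split_ifs with hIi
        · show PowerSeries.coeff _ (ps ψ (LocRes.hasseD Ht (I c) (φ' r.succ))) = 0
          rw [(hasseD_spec hK hψ hψt hHt (hle _) _).2, coeff_psHasse, Nat.sub_add_cancel hIi,
            (val_le_iff_coeff hψ (hle _) (J r)).mp (hl r).1.le i hi, mul_zero]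
        · rfl
  let N : Matrix (Fin (n + 1)) (Fin (n + 1)) (PowerSeries k) :=
    Matrix.of fun r c => PowerSeries.mk fun i => PowerSeries.coeff (i + a r) (M r c * PowerSeries.X ^ b c)
  have hN : ∀ r c, M r c * PowerSeries.X ^ b c = PowerSeries.X ^ a r * N r c := by
    intro r c
    ext i
    rw [PowerSeries.coeff_X_pow_mul']
    split_ifs with h
    · simp only [N, Matrix.of_apply, PowerSeries.coeff_mk, Nat.sub_add_cancel h]
    · exact hlow r c i (not_le.mp h)
  have hdet : M.det * PowerSeries.X ^ (∑ c, b c) = PowerSeries.X ^ (∑ r, a r) * N.det := by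
    rw [← Finset.prod_pow_eq_pow_sum, ← Finset.prod_pow_eq_pow_sum, mul_comm, ← Matrix.det_mul_row,
      ← Matrix.det_mul_column]
    congr 1
    ext1 r c
    simp only [Matrix.of_apply]
    rw [mul_comm, hN]
  let B : Matrix (Fin (n + 1)) (Fin (n + 1)) k := (PowerSeries.constantCoeff (R := k)).mapMatrix N
  have hB : ∀ r c, B r c = PowerSeries.coeff (a r) (M r c * PowerSeries.X ^ b c) := fun r c => by
    show PowerSeries.constantCoeff (N r c) = _
    rw [← PowerSeries.coeff_zero_eq_constantCoeff_apply]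
    simp only [N, Matrix.of_apply, PowerSeries.coeff_mk, zero_add]
  have hBzero : ∀ r : Fin n, IsStrongFixedPt τ P → B r.succ 0 = 0 := fun r hs => by
    rw [hB, show b 0 = 0 from rfl, pow_zero, mul_one, show a r.succ = J r from rfl]
    have hJr := orderAt_pos hJ r
    refine (val_le_iff_coeff hψ (hent r.succ 0) (2 * J r)).mp ?_ (J r) (by omega)
    refine ((fixed_val_le hP ht hJr (hl r).1.le).2 hs).trans (le_of_eq ?_)
    push_cast
    rfl
  have hB00 : B 0 0 = 1 := by
    rw [hB, show b 0 = 0 from rfl, pow_zero, mul_one, show a 0 = 0 from rfl]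
    show PowerSeries.coeff 0 (ps ψ (τ (φ' 0))) = 1
    rw [h0, map_one, show (1 : K) = algebraMap k K 1 from (map_one _).symm, ps_algebraMap hψ,
      PowerSeries.coeff_zero_C]
  have hBbin : ∀ r c : Fin n, B r.succ c.succ = ((J r).choose (I c) : k) := fun r c => by
    rw [hB, show b c.succ = I c from rfl, show a r.succ = J r from rfl, PowerSeries.coeff_mul_X_pow']
    split_ifs with h
    · show PowerSeries.coeff _ (ps ψ (LocRes.hasseD Ht (I c) (φ' r.succ))) = _
      rw [(hasseD_spec hK hψ hψt hHt (hle _) _).2, coeff_psHasse, Nat.sub_add_cancel h, (hl r).2, mul_one]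
    · rw [Nat.choose_eq_zero_of_lt (not_le.mp h), Nat.cast_zero]
  have hBrow : (∀ l, 0 < I l) → ∀ c : Fin n, B 0 c.succ = 0 := fun hI c => by
    rw [hB, show b c.succ = I c from rfl, show a 0 = 0 from rfl, PowerSeries.coeff_mul_X_pow',
      if_neg (by have := hI c; omega)]
  have hBdet : ((∀ l, 0 < I l) ∨ IsStrongFixedPt τ P) → B.det = (binomMat k J I).det := by
    rintro (hI | hs)
    · rw [Matrix.det_succ_row_zero, Fin.sum_univ_succ, Finset.sum_eq_zero fun c _ => by
        rw [hBrow hI c]; ring, hB00]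
      simp only [Fin.val_zero, pow_zero, one_mul, add_zero, Fin.succAbove_zero]
      congr 1
      ext r c
      exact hBbin r c
    · rw [Matrix.det_succ_column_zero, Fin.sum_univ_succ, Finset.sum_eq_zero fun r _ => by
        rw [hBzero r hs]; ring, hB00]
      simp only [Fin.val_zero, pow_zero, one_mul, add_zero, Fin.succAbove_zero]
      congr 1
      ext r c
      exact hBbin r c
  let g : PowerSeries k →+* LaurentSeries k := HahnSeries.ofPowerSeries ℤ k
  have hy : ψ y = g M.det := by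
    rw [RingHom.map_det g M, AlgHom.map_det]
    congr 1
    ext1 r c
    exact (coe_ps hψ (hent r c)).symm
  have ht0 : t ≠ 0 := fun e => by rw [e, map_zero] at ht; exact exp_ne_zero ht.symm
  set z := y * t ^ (∑ c, b c) / t ^ (∑ r, a r) with hz
  have hψz : ψ z = g N.det := by
    have hX : g PowerSeries.X = ψ t := by rw [hψt]; exact PowerSeries.coe_X
    rw [hz, map_div₀, map_mul, map_pow, map_pow, hy, ← hX, ← map_pow, ← map_mul, hdet, map_mul,
      map_pow, mul_div_cancel_left₀]
    exact pow_ne_zero _ (hX ▸ (map_ne_zero ψ).mpr ht0)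
  have hz1 : P.1 z ≤ 1 := by
    rw [← hψ.1, hψz]
    exact (LaurentSeries.val_le_one_iff_eq_coe k _).mpr ⟨_, rfl⟩
  have hzB : P.1 z = 1 ↔ B.det ≠ 0 := by
    have h1e : P.1 z = 1 ↔ P.1 z = exp (-((0 : ℕ) : ℤ)) := by simp [exp_zero]
    rw [h1e, val_eq_iff_coeff hψ hz1, ps_eq_of_coe hψz, PowerSeries.coeff_zero_eq_constantCoeff,
      RingHom.map_det]
    simp only [Nat.not_lt_zero, false_implies, implies_true, true_and]
    rfl
  have hsum : (∑ l, ((J l : ℤ) - I l)) = ((∑ r, a r : ℕ) : ℤ) - (∑ c, b c : ℕ) := by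
    push_cast
    rw [Fin.sum_univ_succ, Fin.sum_univ_succ]
    simp [a, b, withZero, Finset.sum_sub_distrib]
  have hyz : P.1 y = P.1 z * exp (-(∑ l, ((J l : ℤ) - I l))) := by
    have hprod : y = z * t ^ (∑ r, a r) / t ^ (∑ c, b c) := by
      rw [hz]; field_simp
    conv_lhs => rw [hprod]
    rw [map_div₀, map_mul, map_pow, map_pow, ht, ← exp_nsmul, ← exp_nsmul, mul_div_assoc, div_eq_mul_inv,
      ← exp_neg, ← exp_add, hsum]
    congr 2
    simp only [nsmul_eq_mul]
    ring
  refine ⟨?_, fun hcase => ?_⟩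
  · rw [hyz]
    exact mul_le_of_le_one_left' hz1
  · rw [← hBdet hcase, ← hzB, hyz]
    exact mul_eq_right₀ exp_ne_zero

omit [IsAlgClosed k] in
theorem ordDiff_unif {Φ : K →ₐ[k] LaurentSeries k} (hΦ : LocRes.IsExpansionAt P.1 Φ)
    (ht : P.1 t = exp (-1 : ℤ)) : LocRes.ordDiff Φ 1 t = 0 := by
  have ht1 : P.1 t ≤ 1 := by rw [ht, ← exp_zero, exp_le_exp]; norm_num
  have hv := (val_eq_iff_coeff hΦ ht1 1).mp ht
  rw [LocRes.ordDiff, LocRes.vDiff, map_one, one_mul, ← coe_ps hΦ ht1, LocRes.D_coe,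
    neg_eq_zero]
  have : Valued.v ((PowerSeries.derivative k (ps Φ t) : PowerSeries k) : LaurentSeries k) = 1 := by
    have hle := (LaurentSeries.val_le_one_iff_eq_coe k
      ((PowerSeries.derivative k (ps Φ t) : PowerSeries k) : LaurentSeries k)).mpr ⟨_, rfl⟩
    refine le_antisymm hle ?_
    by_contra hlt
    rw [not_le] at hlt
    have h1 : Valued.v ((PowerSeries.derivative k (ps Φ t) : PowerSeries k) : LaurentSeries k) ≤
        exp (-((1 : ℕ) : ℤ)) := by
      revert hlt
      generalize Valued.v ((PowerSeries.derivative k (ps Φ t) : PowerSeries k) : LaurentSeries k) = w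
      intro hlt
      rcases eq_or_ne w 0 with rfl | hw
      · exact zero_le
      · obtain ⟨m, rfl⟩ : ∃ m, w = exp m := ⟨log w, (exp_log hw).symm⟩
        rw [← exp_zero, exp_lt_exp] at hlt
        rw [exp_le_exp]
        push_cast
        omega
    have h2 := (LaurentSeries.intValuation_le_iff_coeff_lt_eq_zero k _).mp h1 0 one_pos
    rw [PowerSeries.coeff_derivative, zero_add, Nat.cast_zero, zero_add, mul_one] at h2
    exact hv.2 h2
  rw [this, log_one]

include hK hP hψ ht hint in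
/-- The coefficient of the Weierstrass divisor at a fixed place where the tuple is normalised. -/
theorem wDiv_apply_fixed (heff : (1 : K) ∈ Submodule.span k (Set.range φ)) (J : Fin n → ℕ)
    {Φ : Place k K → (K →ₐ[k] LaurentSeries k)} (hΦ : ∀ Q, LocRes.IsExpansionAt Q.1 (Φ Q)) :
    wDiv τ Ht Φ t φ J P = P.ord (wrMat τ Ht φ J).det := by
  have hmap : ∀ f : Fin (n + 1) → K, (∀ i, P.1 (f i) ≤ 1) →
      (∃ i, PowerSeries.coeff 0 (ps ψ (f i)) ≠ 0) → FunFld.mapDiv k f P = 0 := by
    intro f hf ⟨i, hi⟩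
    rw [mapDiv_apply hK.1, neg_eq_zero]
    refine le_antisymm ((Finset.inf'_le _ (Finset.mem_univ i)).trans (le_of_eq ?_))
      ((Finset.le_inf'_iff _ _).mpr fun l _ => ?_)
    · have h1 : P.1 (f i) = exp (-((0 : ℕ) : ℤ)) := (val_eq_iff_coeff hψ (hf i) 0).mpr
        ⟨fun j hj => absurd hj (Nat.not_lt_zero j), hi⟩
      simpa using ord_of_val_eq P h1
    · rcases eq_or_ne (f l) 0 with h | h
      · rw [h, ord_zero]
      · exact (val_le_one_iff P h).mp (hf l)
  obtain ⟨i₀, hi₀⟩ : ∃ i, PowerSeries.coeff 0 (ps ψ (φ i)) ≠ 0 := by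
    by_contra! h
    exact ccol_zero_ne hψ heff (funext h)
  have h1 := hmap φ hint ⟨i₀, hi₀⟩
  have h2 := hmap (τ ∘ φ) (fun i => (fixed_ps_zero hK hP hψ (hint i)).1)
    ⟨i₀, by rwa [Function.comp_apply, (fixed_ps_zero hK hP hψ (hint i₀)).2]⟩
  have h3 : divDiff Φ 1 t P = 0 := by
    unfold divDiff
    split
    · show LocRes.ordDiff (Φ P) 1 t = 0
      exact ordDiff_unif (hΦ P) ht
    · rfl
  simp only [wDiv, Finsupp.add_apply, Finsupp.smul_apply, h1, h2, h3, smul_zero, add_zero]
  exact div_apply hK.1 _ _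

end Groth.Agent.FFLib
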