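import Groth.Agent.FFLib.SV.Classical
import Groth.Agent.FFLib.Embed
import Mathlib.FieldTheory.Relrank

/-! Endomorphisms fixing functions with one pole. -/

namespace Groth.Agent.FFLib

open FunFld WithZero IntermediateField

universe u v

variable {k : Type u} {K : Type v} [Field k] [Field K] [Algebra k K] [IsAlgClosed k]
  (hK : IsFunctionField k K)
include hK

/-- A function with only pole at `P` of order `m`. -/
theorem exists_pole_only (P : Place k K) {m : ℕ} (hm : 2 * genus k K ≤ m) :
    ∃ x ∈ L (Finsupp.single P (m : ℤ)), x ≠ 0 ∧ P.ord x = -(m : ℤ) := by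
  classical
  have h := noBase_of_deg hK (D := Finsupp.single P (m : ℤ))
    (by rw [Divisor.deg_single, deg_eq_one hK.1 P]; push_cast; omega) P
  simpa using h

theorem finrank_adjoin_pole_only {P : Place k K} {m : ℕ} (hm : 0 < m) {x : K}
    (hx : x ∈ L (Finsupp.single P (m : ℤ))) (hx0 : x ≠ 0) (hord : P.ord x = -(m : ℤ)) :
    Module.finrank k⟮x⟯ K = m := by
  classical
  have htr := transcendental_of_ord_ne_zero P (x := x) (by omega)
  have hp : poles x = Finsupp.single P (m : ℤ) := by
    ext Q
    rw [poles, Finsupp.mapRange_apply, div_apply hK.1, Finsupp.single_apply]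
    split_ifs with h
    · subst h; omega
    · have := (mem_L_iff_ord hx0).mp hx Q
      rw [Finsupp.single_apply, if_neg h] at this
      omega
  have h := deg_poles hK.1 htr
  rw [hp, Divisor.deg_single, deg_eq_one hK.1 P] at h
  omega

/-- An endomorphism fixing functions with only pole at `P` of coprime orders is the identity. -/
theorem eq_id_of_fix_pole_only (τ : K →ₐ[k] K) {P : Place k K} {m : ℕ} {x x' : K}
    (hx : x ∈ L (Finsupp.single P (m : ℤ))) (hx0 : x ≠ 0) (hord : P.ord x = -(m : ℤ))
    (hx' : x' ∈ L (Finsupp.single P ((m + 1 : ℕ) : ℤ))) (hx'0 : x' ≠ 0)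
    (hord' : P.ord x' = -((m + 1 : ℕ) : ℤ)) (hfx : τ x = x) (hfx' : τ x' = x') :
    τ = AlgHom.id k K := by
  let M : IntermediateField k K :=
    { AlgHom.equalizer τ (AlgHom.id k K) with
      inv_mem' := fun z (hz : τ z = z) => show τ z⁻¹ = z⁻¹ by rw [map_inv₀, hz] }
  have key : ∀ {z : K} {d : ℕ}, z ∈ L (Finsupp.single P (d : ℤ)) → z ≠ 0 → P.ord z = -(d : ℤ) → 0 < d →
      τ z = z → Module.finrank M K ∣ d := by
    intro z d hz hz0 ho hd hfz
    have hle : k⟮z⟯ ≤ M := adjoin_simple_le_iff.mpr hfz
    rw [← finrank_adjoin_pole_only hK hd hz hz0 ho, ← relfinrank_mul_finrank_top hle]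
    exact Dvd.intro_left _ rfl
  have h1 : Module.finrank M K = 1 := by
    rcases Nat.eq_zero_or_pos m with rfl | hm
    · simpa using key hx' hx'0 hord' one_pos hfx'
    have := Nat.dvd_sub (key hx' hx'0 hord' m.succ_pos hfx') (key hx hx0 hord hm hfx)
    simpa using this
  have htop : M = ⊤ := IntermediateField.finrank_eq_one_iff_eq_top.mp h1
  exact AlgHom.ext fun z => (show z ∈ M by rw [htop]; trivial)

omit [IsAlgClosed k] hK in
/-- The identity has no strong fixed places. -/
theorem not_isStrongFixedPt_id (P : Place k K) : ¬ IsStrongFixedPt (AlgHom.id k K) P := by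
  intro h
  obtain ⟨t, -, ht⟩ := exists_unif P
  have h2 : P.1 t ≤ exp (-2 : ℤ) := h t (by rw [ht, ← exp_zero, exp_lt_exp]; norm_num)
  rw [ht, exp_le_exp] at h2
  omega

end Groth.Agent.FFLib
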