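import Groth.Prelude.Def_W4bk4goldsch45p2
import Mathlib.LinearAlgebra.Matrix.Block
import Mathlib.LinearAlgebra.Matrix.NonsingularInverse
import Mathlib.LinearAlgebra.Dimension.Constructions
import Mathlib.Data.Finset.Sort

/-! Jumps of column sequences, order sequences and greedy bases. -/

namespace Groth.Agent.FFLib

open FunFld Module

variable {R M : Type*} [Field R] [AddCommGroup M] [Module R M] {c c' : ℕ → M}

/-- The indices of the columns selected by an order sequence. -/
def jumpIdx {n : ℕ} (J : Fin n → ℕ) : Fin (n + 1) → ℕ :=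
  Fin.cases 0 fun l => J l + 1

@[simp] theorem jumpIdx_zero {n : ℕ} (J : Fin n → ℕ) : jumpIdx J 0 = 0 := rfl

@[simp] theorem jumpIdx_succ {n : ℕ} (J : Fin n → ℕ) (l : Fin n) : jumpIdx J l.succ = J l + 1 := rfl

theorem jumpIdx_strictMono {n : ℕ} {J : Fin n → ℕ} (hJ : StrictMono J) : StrictMono (jumpIdx J) := by
  intro a b hab
  induction b using Fin.cases with
  | zero => exact absurd hab (Fin.not_lt_zero a)
  | succ b =>
    induction a using Fin.cases with
    | zero => simp
    | succ a => simpa using hJ (Fin.succ_lt_succ_iff.mp hab)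

/-- The span of the first columns is spanned by the jumps among them. -/
theorem span_Iio_eq_span_jumps (c : ℕ → M) (j : ℕ) :
    Submodule.span R (c '' Set.Iio j) = Submodule.span R (c '' {i | i < j ∧ IsJump R c i}) := by
  refine le_antisymm ?_ (Submodule.span_mono (Set.image_mono fun i hi => hi.1))
  induction j using Nat.strong_induction_on with
  | _ j ih =>
    rw [Submodule.span_le]
    rintro _ ⟨i, hi, rfl⟩
    by_cases h : IsJump R c i
    · exact Submodule.subset_span ⟨i, ⟨hi, h⟩, rfl⟩
    · exact Submodule.span_mono (Set.image_mono fun a (ha : a < i ∧ _) =>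
        (⟨ha.1.trans hi, ha.2⟩ : a < j ∧ _)) (ih i hi (not_not.mp h))

theorem linearIndepOn_jumps (c : ℕ → M) : LinearIndepOn R c {i | IsJump R c i} := by
  have key : ∀ j, LinearIndepOn R c {i | i < j ∧ IsJump R c i} := by
    intro j
    induction j with
    | zero => simp [LinearIndepOn]
    | succ j ih =>
      by_cases h : IsJump R c j
      · rw [show {i | i < j + 1 ∧ IsJump R c i} = insert j {i | i < j ∧ IsJump R c i} by
          ext i
          simp only [Set.mem_insert_iff, Set.mem_ofPred_eq]
          constructor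
          · rintro ⟨hi, hi'⟩
            rcases eq_or_lt_of_le (Nat.lt_succ_iff.mp hi) with rfl | hlt
            · exact Or.inl rfl
            · exact Or.inr ⟨hlt, hi'⟩
          · rintro (rfl | ⟨hi, hi'⟩)
            · exact ⟨i.lt_succ_self, h⟩
            · exact ⟨hi.trans j.lt_succ_self, hi'⟩]
        refine (linearIndepOn_insert (K := R) (by simp)).mpr ⟨ih, fun hm => h ?_⟩
        rw [span_Iio_eq_span_jumps]; exact hm
      · rwa [show {i | i < j + 1 ∧ IsJump R c i} = {i | i < j ∧ IsJump R c i} by
          ext i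
          simp only [Set.mem_ofPred_eq]
          refine ⟨fun ⟨hi, hi'⟩ => ⟨(Nat.lt_succ_iff.mp hi).lt_of_ne ?_, hi'⟩,
            fun ⟨hi, hi'⟩ => ⟨hi.trans j.lt_succ_self, hi'⟩⟩
          rintro rfl
          exact h hi']
  rw [show {i | IsJump R c i} = ⋃ j, {i | i < j ∧ IsJump R c i} from Set.ext fun i =>
    ⟨fun h => Set.mem_iUnion.mpr ⟨i + 1, i.lt_succ_self, h⟩, fun h => (Set.mem_iUnion.mp h).elim fun _ h => h.2⟩]
  exact linearIndepOn_iUnion_of_directed (Monotone.directed_le fun a b hab i hi =>
    (⟨hi.1.trans_le hab, hi.2⟩ : i < b ∧ _)) key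

/-- Equal flags have equal jumps, and rescaling plus adding earlier columns preserves the flag. -/
theorem jumps_of_triangular (d : ℕ → R) (hd : ∀ j, d j ≠ 0)
    (h : ∀ j, c' j - d j • c j ∈ Submodule.span R (c '' Set.Iio j)) :
    (∀ j, Submodule.span R (c' '' Set.Iio j) = Submodule.span R (c '' Set.Iio j)) ∧
      ∀ j, IsJump R c' j ↔ IsJump R c j := by
  have hflag : ∀ j, Submodule.span R (c' '' Set.Iio j) = Submodule.span R (c '' Set.Iio j) := by
    intro j
    induction j with
    | zero => simp
    | succ j ih =>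
      have hI : Set.Iio (j + 1) = insert j (Set.Iio j) := by ext i; simp
      rw [hI, Set.image_insert_eq, Set.image_insert_eq, Submodule.span_insert, Submodule.span_insert, ih]
      refine le_antisymm (sup_le ?_ le_sup_right) (sup_le ?_ le_sup_right)
      · rw [Submodule.span_singleton_le_iff_mem, ← sub_add_cancel (c' j) (d j • c j)]
        exact Submodule.add_mem _ (Submodule.mem_sup_right (h j))
          (Submodule.mem_sup_left (Submodule.smul_mem _ _ (Submodule.mem_span_singleton_self _)))
      · rw [Submodule.span_singleton_le_iff_mem,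
          ← Submodule.smul_mem_iff _ (hd j), ← sub_sub_cancel (c' j) (d j • c j)]
        exact Submodule.sub_mem _ (Submodule.mem_sup_left (Submodule.mem_span_singleton_self _))
          (Submodule.mem_sup_right (h j))
  refine ⟨hflag, fun j => ?_⟩
  show c' j ∉ _ ↔ c j ∉ _
  rw [hflag j, not_iff_not, ← Submodule.smul_mem_iff _ (hd j) (x := c j)]
  exact ⟨fun hm => by simpa using Submodule.sub_mem _ hm (h j),
    fun hm => by simpa using Submodule.add_mem _ (h j) hm⟩

theorem isJump_map {M' : Type*} [AddCommGroup M'] [Module R M'] (g : M ≃ₗ[R] M') (c : ℕ → M) (j : ℕ) :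
    IsJump R (fun i => g (c i)) j ↔ IsJump R c j := by
  show g (c j) ∉ Submodule.span R ((fun i => g (c i)) '' Set.Iio j) ↔ _
  rw [← Set.image_image g c, show (⇑g : M → M') = ⇑(g : M →ₗ[R] M') from rfl, Submodule.span_image (g : M →ₗ[R] M'), IsJump, not_iff_not]
  exact ⟨fun ⟨x, hx, he⟩ => g.injective he ▸ hx, fun hx => ⟨c j, hx, rfl⟩⟩

theorem isOrders_congr {R' M' : Type*} [Field R'] [AddCommGroup M'] [Module R' M'] {c' : ℕ → M'}
    (h : ∀ j, IsJump R' c' (j + 1) ↔ IsJump R c (j + 1)) {n : ℕ} (J : Fin n → ℕ) :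
    IsOrders R' c' J ↔ IsOrders R c J := by
  simp only [IsOrders, h]

theorem IsOrders.unique {n : ℕ} {J J' : Fin n → ℕ} (h : IsOrders R c J) (h' : IsOrders R c J') : J = J' :=
  (h.1.range_inj h'.1).mp (Set.ext fun j => (h.2 j).trans (h'.2 j).symm)

section Full

variable {n : ℕ} {J : Fin n → ℕ}

theorem range_jumpIdx (hJ : IsOrders R c J) (h0 : c 0 ≠ 0) :
    Set.range (jumpIdx J) = {i | IsJump R c i} := by
  ext i
  rcases i with _ | i
  · refine iff_of_true ⟨0, rfl⟩ ?_
    show c 0 ∉ _
    simpa using h0
  · show _ ↔ IsJump R c (i + 1)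
    rw [← hJ.2 i]
    constructor
    · rintro ⟨a, ha⟩
      induction a using Fin.cases with
      | zero => simp at ha
      | succ a => exact ⟨a, by simpa using ha⟩
    · rintro ⟨a, rfl⟩
      exact ⟨a.succ, rfl⟩

/-- The columns selected by an order sequence are linearly independent. -/
theorem linearIndependent_jumpIdx (hJ : IsOrders R c J) (h0 : c 0 ≠ 0) :
    LinearIndependent R (c ∘ jumpIdx J) := by
  have := linearIndepOn_jumps (R := R) c
  rw [← range_jumpIdx hJ h0] at this
  exact linearIndepOn_range_iff (jumpIdx_strictMono hJ.1).injective c |>.mp this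

/-- Order sequences exist for spanning column sequences. -/
theorem exists_isOrders [FiniteDimensional R M] (hm : finrank R M = n + 1)
    (hspan : Submodule.span R (Set.range c) = ⊤) (h0 : c 0 ≠ 0) : ∃ J : Fin n → ℕ, IsOrders R c J := by
  have hli := linearIndepOn_jumps (R := R) c
  have hfin : {i | IsJump R c i}.Finite := Set.finite_coe_iff.mp hli.linearIndependent.finite_of_isNoetherian
  have hspan' : Submodule.span R (c '' {i | IsJump R c i}) = ⊤ := by
    rw [eq_top_iff, ← hspan, Submodule.span_le]
    rintro _ ⟨j, rfl⟩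
    have : c j ∈ Submodule.span R (c '' Set.Iio (j + 1)) := Submodule.subset_span ⟨j, j.lt_succ_self, rfl⟩
    rw [span_Iio_eq_span_jumps] at this
    exact Submodule.span_mono (Set.image_mono fun i hi => hi.2) this
  have := hfin.fintype
  have hcard : hfin.toFinset.card = n + 1 := by
    have hb := Basis.mk hli.linearIndependent (by rw [← Set.image_eq_range, hspan'])
    rw [← hm, finrank_eq_card_basis hb, Set.Finite.card_toFinset]
  let e := hfin.toFinset.orderEmbOfFin hcard
  have hmem : ∀ a, IsJump R c (e a) := fun a => hfin.mem_toFinset.mp (Finset.orderEmbOfFin_mem _ hcard a)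
  have hex : ∀ i, IsJump R c i → ∃ a, e a = i := fun i hi => by
    have : i ∈ Set.range e := by rw [Finset.range_orderEmbOfFin]; exact hfin.mem_toFinset.mpr hi
    exact this
  have he0 : e 0 = 0 := by
    obtain ⟨a, ha⟩ := hex 0 (show c 0 ∉ _ by simpa using h0)
    have := e.monotone (Fin.zero_le a)
    omega
  have hpos : ∀ l : Fin n, 1 ≤ e l.succ := fun l => by
    have := e.strictMono (Fin.succ_pos l)
    omega
  refine ⟨fun l => e l.succ - 1, fun a b hab => ?_, fun j => ⟨?_, fun hj => ?_⟩⟩
  · have := e.strictMono (Fin.succ_lt_succ_iff.mpr hab)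
    have := hpos a
    show e a.succ - 1 < e b.succ - 1
    omega
  · rintro ⟨l, rfl⟩
    show IsJump R c (e l.succ - 1 + 1)
    rw [Nat.sub_add_cancel (hpos l)]
    exact hmem _
  · obtain ⟨a, ha⟩ := hex _ hj
    induction a using Fin.cases with
    | zero => omega
    | succ a => exact ⟨a, show e a.succ - 1 = j by omega⟩

/-- Greedy minimality of order sequences. -/
theorem isOrders_le (hJ : IsOrders R c J) (h0 : c 0 ≠ 0) {J' : Fin n → ℕ} (hJ' : StrictMono J')
    (hli : LinearIndependent R (c ∘ jumpIdx J')) (l : Fin n) : J l ≤ J' l := by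
  classical
  by_contra h
  rw [not_le] at h
  let f : Fin (l.val + 2) → Fin (n + 1) := Fin.castLE (by omega)
  have h1 : LinearIndependent R (c ∘ jumpIdx J' ∘ f) := hli.comp f (Fin.castLE_injective _)
  let T : Finset (Fin (n + 1)) := Finset.Iic l.castSucc
  have hTle : Set.range (c ∘ jumpIdx J' ∘ f) ⊆
      (Submodule.span R ((T.image (c ∘ jumpIdx J) : Finset M) : Set M) : Set M) := by
    rintro _ ⟨a, rfl⟩
    have hlt : jumpIdx J' (f a) < J l + 1 := by
      have : f a ≤ l.succ := by simp only [f, Fin.le_def, Fin.val_castLE, Fin.val_succ]; omega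
      calc jumpIdx J' (f a) ≤ jumpIdx J' l.succ := (jumpIdx_strictMono hJ').monotone this
        _ < J l + 1 := by simp; omega
    have : c (jumpIdx J' (f a)) ∈ Submodule.span R (c '' Set.Iio (J l + 1)) :=
      Submodule.subset_span ⟨_, hlt, rfl⟩
    rw [span_Iio_eq_span_jumps] at this
    refine Submodule.span_mono ?_ this
    rintro _ ⟨i, ⟨hi, hij⟩, rfl⟩
    obtain ⟨b, rfl⟩ : i ∈ Set.range (jumpIdx J) := by rw [range_jumpIdx hJ h0]; exact hij
    refine Finset.mem_coe.mpr (Finset.mem_image.mpr ⟨b, Finset.mem_Iic.mpr ?_, rfl⟩)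
    have : b < l.succ := (jumpIdx_strictMono hJ.1).lt_iff_lt.mp (by simpa using hi)
    simp only [Fin.le_def, Fin.lt_def, Fin.val_succ, Fin.val_castSucc] at this ⊢
    omega
  have h2 := finrank_span_eq_card h1
  have h3 : finrank R (Submodule.span R (Set.range (c ∘ jumpIdx J' ∘ f))) ≤
      finrank R (Submodule.span R ((T.image (c ∘ jumpIdx J) : Finset M) : Set M)) :=
    Submodule.finrank_mono (Submodule.span_le.mpr hTle)
  have h4 := finrank_span_finset_le_card (R := R) (T.image (c ∘ jumpIdx J))
  have h5 : (T.image (c ∘ jumpIdx J)).card ≤ l.val + 1 :=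
    Finset.card_image_le.trans (by simp [T])
  rw [Fintype.card_fin] at h2
  rw [Set.finrank] at h4
  omega

end Full

/-- Determinant after a triangular change of columns. -/
theorem det_triangular {K : Type*} [Field K] {m : ℕ} (A B : Matrix (Fin m) (Fin m) K) (d : Fin m → K)
    (h : ∀ l, (fun i => B i l) - d l • (fun i => A i l) ∈
      Submodule.span K ((fun a => fun i => A i a) '' Set.Iio l)) :
    B.det = (∏ l, d l) * A.det := by
  classical
  have h' : ∀ l, ∃ T : Fin m → K, (∀ a, ¬ a < l → T a = 0) ∧
      ∀ i, B i l = d l * A i l + ∑ a, T a * A i a := by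
    intro l
    have hl := h l
    rw [Set.image_eq_range, Submodule.mem_span_range_iff_exists_fun] at hl
    obtain ⟨T, hT⟩ := hl
    refine ⟨fun a => if hh : a < l then T ⟨a, hh⟩ else 0, fun a ha => dif_neg ha, fun i => ?_⟩
    have he := congrFun hT i
    simp only [Pi.sub_apply, Pi.smul_apply, smul_eq_mul, Finset.sum_apply] at he
    have hs : ∑ a, (if hh : a < l then T ⟨a, hh⟩ else 0) * A i a = ∑ a : Set.Iio l, T a * A i a := by
      rw [← Finset.sum_filter_of_ne (p := (· < l)) fun a _ ha => by
        by_contra hn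
        exact ha (by rw [dif_neg hn, zero_mul]),
        Finset.sum_subtype (p := (· ∈ Set.Iio l)) (Finset.univ.filter (· < l)) (by simp)]
      exact Finset.sum_congr rfl fun a _ => by rw [dif_pos (show (a : Fin m) < l from a.2)]
    rw [hs]
    linear_combination -he
  choose T hT hBT using h'
  have hBA : B = A * Matrix.of fun a l => (if a = l then d l else 0) + T l a := by
    ext i l
    rw [hBT, Matrix.mul_apply]
    simp only [Matrix.of_apply, mul_add, Finset.sum_add_distrib, mul_ite, mul_zero,
      Finset.sum_ite_eq', Finset.mem_univ, if_true]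
    congr 1
    · exact mul_comm _ _
    · exact Finset.sum_congr rfl fun a _ => mul_comm _ _
  rw [hBA, Matrix.det_mul, Matrix.det_of_isUpperTriangular (M := Matrix.of fun a l => (if a = l then d l else 0) + T l a), mul_comm]
  · congr 1
    exact Finset.prod_congr rfl fun l _ => by simp [hT l l (lt_irrefl l)]
  · intro a l hla
    have hla : l < a := hla
    simp [hla.ne', hT l a (not_lt.mpr hla.le)]

end Groth.Agent.FFLib
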