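import Groth.Agent.FFLib.SV.AtPlace
import Mathlib.RingTheory.PowerSeries.Substitution

/-! Order sequences of a tuple of functions with respect to Hasse derivatives. -/

namespace Groth.Agent.FFLib

open FunFld Module WithZero

universe u v

variable {k : Type u} {K : Type v} [Field k] [Field K] [Algebra k K]

/-- A spanning sequence contains a basis. -/
theorem exists_li_cols {R M : Type*} [Field R] [AddCommGroup M] [Module R M] [FiniteDimensional R M]
    {c : ℕ → M} (hc : Submodule.span R (Set.range c) = ⊤) {m : ℕ} (hm : finrank R M = m) :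
    ∃ e : Fin m → ℕ, LinearIndependent R (c ∘ e) := by
  obtain ⟨b, hb, hspan, hli⟩ := exists_linearIndependent R (Set.range c)
  have hfin : b.Finite := Set.finite_coe_iff.mp hli.finite_of_isNoetherian
  have := hfin.fintype
  have hcard : Fintype.card b = m := by
    rw [← hm, finrank_eq_card_basis (Basis.mk hli (by rw [Subtype.range_coe, hspan, hc]))]
  choose e he using fun x : b => hb x.2
  refine ⟨fun l => e ((Fintype.equivFinOfCardEq hcard).symm l), ?_⟩
  have : (c ∘ fun l => e ((Fintype.equivFinOfCardEq hcard).symm l)) =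
      (fun x : b => (x : M)) ∘ (Fintype.equivFinOfCardEq hcard).symm := funext fun l => he _
  rw [this]
  exact hli.comp _ (Equiv.injective _)

theorem wrMat_eq {n : ℕ} (τ : K →ₐ[k] K) (H : K →ₐ[k] PowerSeries K) (φ : Fin (n + 1) → K)
    (I : Fin n → ℕ) : wrMat τ H φ I = Matrix.of fun i l => hcol τ H φ (jumpIdx I l) i := by
  ext i l
  induction l using Fin.cases with
  | zero => rfl
  | succ l => rfl

theorem hcol_zero_ne {n : ℕ} {φ : Fin (n + 1) → K} (hφ : LinearIndependent k φ) (τ : K →ₐ[k] K)
    (H : K →ₐ[k] PowerSeries K) : hcol τ H φ 0 ≠ 0 := fun h =>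
  hφ.ne_zero 0 (RingHom.injective (τ : K →+* K) ((congrFun h 0).trans (map_zero τ).symm))

/-- The coefficients of a substitution. -/
theorem coeff_subst_eq {R : Type*} [CommRing R] {u : PowerSeries R}
    (hu : PowerSeries.constantCoeff u = 0) (f : PowerSeries R) (j : ℕ) :
    PowerSeries.coeff j (PowerSeries.subst u f) =
      (∑ i ∈ Finset.range j, PowerSeries.coeff j (u ^ i) * PowerSeries.coeff i f) +
        PowerSeries.coeff 1 u ^ j * PowerSeries.coeff j f := by
  obtain ⟨v, hv⟩ := PowerSeries.X_dvd_iff.mpr hu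
  have hpow : ∀ i, PowerSeries.coeff j (u ^ i) =
      if i ≤ j then PowerSeries.coeff (j - i) (v ^ i) else 0 := fun i => by
    rw [hv, mul_pow, PowerSeries.coeff_X_pow_mul']
  rw [PowerSeries.coeff_subst' (PowerSeries.HasSubst.of_constantCoeff_zero' hu),
    finsum_eq_sum_of_support_subset _ (s := Finset.range (j + 1)) (fun i hi => by
      rw [Function.mem_support] at hi
      rw [Finset.coe_range, Set.mem_Iio]
      by_contra hc
      exact hi (by rw [hpow, if_neg (by omega), smul_zero])),
    Finset.sum_range_succ]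
  congr 1
  · exact Finset.sum_congr rfl fun i _ => by rw [smul_eq_mul, mul_comm]
  · rw [hpow, if_pos le_rfl, Nat.sub_self, PowerSeries.coeff_zero_eq_constantCoeff, map_pow,
      smul_eq_mul, mul_comm]
    congr 2
    rw [hv, show (1 : ℕ) = 0 + 1 from rfl, PowerSeries.coeff_succ_X_mul,
      PowerSeries.coeff_zero_eq_constantCoeff]

variable [IsAlgClosed k] (hK : IsFunctionField k K)
include hK

/-- The columns of Hasse derivatives of an independent tuple span. -/
theorem span_hasse_eq_top {m : ℕ} {f : Fin m → K} (hf : LinearIndependent k f) {s : K}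
    {H : K →ₐ[k] PowerSeries K} (hH : LocRes.IsHasseFamily s H) :
    Submodule.span K (Set.range fun j => fun i => LocRes.hasseD H j (f i)) = (⊤ : Submodule K (Fin m → K)) := by
  classical
  refine span_cols_eq_top (f := fun i j => LocRes.hasseD H j (f i)) ?_
  rw [Fintype.linearIndependent_iff]
  intro a ha
  have h0 : ∑ i, PowerSeries.C (a i) * H (f i) = 0 := PowerSeries.ext fun j => by
    rw [map_sum, map_zero]
    refine Eq.trans (Finset.sum_congr rfl fun i _ => ?_) (congrFun ha j |> fun h => by
      simpa [Finset.sum_apply] using h)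
    rw [PowerSeries.coeff_C_mul]
  obtain ⟨P⟩ := exists_place hK.1
  obtain ⟨t, ht0, ht⟩ := exists_unif P
  obtain ⟨Ht, hHt⟩ := exists_hasse_unif hK P ht
  obtain ⟨ψ, hψ, hψt⟩ := exists_expansion' hK P ht
  have hu : PowerSeries.HasSubst (Ht s - PowerSeries.C s) :=
    PowerSeries.HasSubst.of_constantCoeff_zero'
      (by rw [map_sub, hHt.2, PowerSeries.constantCoeff_C, sub_self])
  have h1 : ∑ i, PowerSeries.C (a i) * Ht (f i) = 0 := by
    have := congrArg (PowerSeries.substAlgHom (R := K) hu) h0
    rw [map_sum, map_zero] at this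
    refine (Finset.sum_congr rfl fun i _ => ?_).trans this
    rw [map_mul, hasse_chain hK (isGeometric_of_perfect hK) hH hHt.2 (f i), PowerSeries.coe_substAlgHom]
    congr 1
    exact ((PowerSeries.substAlgHom (R := K) hu).commutes (a i)).symm.trans
      (by rw [PowerSeries.coe_substAlgHom]; rfl)
  let N := ∑ i, (-P.ord (f i)).toNat
  let y := t ^ N
  have hy : y ≠ 0 := pow_ne_zero _ ht0
  have hint : ∀ i, P.1 ((y • f) i) ≤ 1 := by
    intro i
    show P.1 (y * f i) ≤ 1
    rcases eq_or_ne (f i) 0 with h | h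
    · simp [h]
    · rw [val_le_one_iff P (mul_ne_zero hy h), ord_mul P hy h, ord_pow, ord_of_val_eq P ht]
      have : (-P.ord (f i)).toNat ≤ N :=
        Finset.single_le_sum (f := fun i => (-P.ord (f i)).toNat) (fun _ _ => Nat.zero_le _) (Finset.mem_univ i)
      omega
  have hli : LinearIndependent k (y • f) :=
    hf.map' (LinearMap.mulLeft k y) (LinearMap.ker_eq_bot.mpr (mul_right_injective₀ hy))
  have h2 : ∀ j, ∑ i, ψ (a i) * (psHasse j (ps ψ ((y • f) i)) : PowerSeries k) = 0 := by
    intro j
    have e : ∑ i, PowerSeries.C (a i) * Ht ((y • f) i) = 0 := by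
      have := congrArg (Ht y * ·) h1
      rw [mul_zero, Finset.mul_sum] at this
      refine (Finset.sum_congr rfl fun i _ => ?_).trans this
      show _ * Ht (y * f i) = _
      rw [map_mul]; ring
    have := congrArg (fun g => ψ (PowerSeries.coeff j g)) e
    simp only [map_sum, map_zero] at this
    refine (Finset.sum_congr rfl fun i _ => ?_).trans this
    obtain ⟨h3, h4⟩ := hasseD_spec hK hψ hψt hHt (hint i) j
    rw [PowerSeries.coeff_C_mul, map_mul, ← h4, coe_ps hψ h3, LocRes.hasseD_apply]
  obtain ⟨e, he⟩ := exists_li_cols (span_cols_eq_top (linearIndependent_coeff hψ hli hint))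
    (finrank_fin_fun k)
  let M : Matrix (Fin m) (Fin m) (PowerSeries k) :=
    Matrix.of fun i l => psHasse (e l) (ps ψ ((y • f) i))
  have hM : M.det ≠ 0 := by
    intro h
    have hc := RingHom.map_det (PowerSeries.constantCoeff (R := k)) M
    rw [h, map_zero] at hc
    refine (det_cols_ne_zero_iff (R := k)
      (fun l => fun i => PowerSeries.coeff (e l) (ps ψ ((y • f) i)))).mpr he ?_
    refine Eq.trans ?_ hc.symm
    congr 1
    ext i l
    simp only [M, Matrix.of_apply, RingHom.mapMatrix_apply, Matrix.map_apply]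
    rw [← PowerSeries.coeff_zero_eq_constantCoeff_apply, coeff_psHasse, zero_add, Nat.choose_self,
      Nat.cast_one, one_mul]
  let g : PowerSeries k →+* LaurentSeries k := HahnSeries.ofPowerSeries ℤ k
  have hv : Matrix.vecMul (fun i => ψ (a i)) (g.mapMatrix M) = 0 := funext fun l => h2 (e l)
  have hdet : (g.mapMatrix M).det ≠ 0 := by
    rw [← RingHom.map_det]
    exact (map_ne_zero_iff _ HahnSeries.ofPowerSeries_injective).mpr hM
  intro i
  exact (map_eq_zero ψ).mp (congrFun (Matrix.eq_zero_of_vecMul_eq_zero hdet hv) i)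

variable {n : ℕ} {φ : Fin (n + 1) → K} (hφ : LinearIndependent k φ) (τ : K →ₐ[k] K) {s : K}
  {H : K →ₐ[k] PowerSeries K} (hH : LocRes.IsHasseFamily s H)
include hφ hH

theorem span_hcol_eq_top : Submodule.span K (Set.range (hcol τ H φ)) = ⊤ := by
  rw [eq_top_iff, ← span_hasse_eq_top hK hφ hH]
  exact Submodule.span_mono (Set.range_subset_iff.mpr fun j => ⟨j + 1, rfl⟩)

theorem exists_orders : ∃ J : Fin n → ℕ, IsOrders K (hcol τ H φ) J :=
  exists_isOrders (finrank_fin_fun K) (span_hcol_eq_top hK hφ τ hH) (hcol_zero_ne hφ τ H)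

omit [IsAlgClosed k] hK hH in
theorem det_wrMat_ne_zero {J : Fin n → ℕ} (hJ : IsOrders K (hcol τ H φ) J) :
    (wrMat τ H φ J).det ≠ 0 := by
  rw [wrMat_eq]
  exact (det_cols_ne_zero_iff _).mpr (linearIndependent_jumpIdx hJ (hcol_zero_ne hφ τ H))

omit [IsAlgClosed k] hK hH in
theorem orders_le_of_det {J J' : Fin n → ℕ} (hJ : IsOrders K (hcol τ H φ) J) (hJ' : StrictMono J')
    (hdet : (wrMat τ H φ J').det ≠ 0) (l : Fin n) : J l ≤ J' l := by
  rw [wrMat_eq] at hdet
  exact isOrders_le hJ (hcol_zero_ne hφ τ H) hJ' ((det_cols_ne_zero_iff _).mp hdet) l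

omit hK hφ hH in
omit [IsAlgClosed k] in
/-- Effect on the Wronskian of a triangular change of columns. -/
theorem det_triangular_cols {c c' : ℕ → Fin (n + 1) → K} {J : Fin n → ℕ} (hJ : IsOrders K c J)
    (h0 : c 0 ≠ 0) (d : ℕ → K)
    (h : ∀ j, c' j - d j • c j ∈ Submodule.span K (c '' Set.Iio j)) :
    (Matrix.of fun i l => c' (jumpIdx J l) i).det =
      (∏ l, d (jumpIdx J l)) * (Matrix.of fun i l => c (jumpIdx J l) i).det := by
  refine det_triangular _ _ _ fun l => ?_
  have := h (jumpIdx J l)
  rw [span_Iio_eq_span_jumps] at this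
  refine Submodule.span_mono ?_ this
  rintro _ ⟨i, ⟨hi, hij⟩, rfl⟩
  obtain ⟨b, rfl⟩ : i ∈ Set.range (jumpIdx J) := by rw [range_jumpIdx hJ h0]; exact hij
  exact ⟨b, (jumpIdx_strictMono hJ.1).lt_iff_lt.mp hi, rfl⟩

omit hK hφ hH in
omit [IsAlgClosed k] in
/-- Multiplying the tuple by a function. -/
theorem smul_triangular {y : K} (hy : ∀ z, PowerSeries.constantCoeff (H z) = z) (j : ℕ) :
    hcol τ H (y • φ) j - (if j = 0 then τ y else y) • hcol τ H φ j ∈
      Submodule.span K (hcol τ H φ '' Set.Iio j) := by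
  rcases j with _ | j
  · convert Submodule.zero_mem _
    ext i
    simp [hcol]
  · rw [if_neg j.succ_ne_zero]
    have : hcol τ H (y • φ) (j + 1) - y • hcol τ H φ (j + 1) =
        ∑ a ∈ Finset.range j, LocRes.hasseD H (j - a) y • hcol τ H φ (a + 1) := by
      ext i
      show LocRes.hasseD H j (y * φ i) - y * LocRes.hasseD H j (φ i) = _
      rw [Finset.sum_apply, LocRes.hasseD_apply, map_mul, PowerSeries.coeff_mul,
        ← Finset.Nat.sum_antidiagonal_eq_sum_range_succ_mk (n := j)
          (f := fun p => PowerSeries.coeff p.1 (H y) * PowerSeries.coeff p.2 (H (φ i))) |>.symm,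
        ← Finset.sum_range_reflect, Finset.sum_range_succ]
      simp only [Nat.succ_sub_one, Nat.sub_self, Nat.sub_zero]
      rw [PowerSeries.coeff_zero_eq_constantCoeff, hy, ← LocRes.hasseD_apply, add_sub_cancel_right]
      refine Finset.sum_congr rfl fun a ha => ?_
      rw [Finset.mem_range] at ha
      rw [show j - (j - a) = a by omega]
      rfl
    rw [this]
    exact Submodule.sum_mem _ fun a ha =>
      Submodule.smul_mem _ _ (Submodule.subset_span ⟨a + 1, Set.mem_Iio.mpr
        (Nat.succ_lt_succ (Finset.mem_range.mp ha)), rfl⟩)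

omit hφ in
/-- Changing the separating variable. -/
theorem change_triangular {t : K} {Ht : K →ₐ[k] PowerSeries K} (hHt : LocRes.IsHasseFamily t Ht) (j : ℕ) :
    hcol τ Ht φ j - (LocRes.hasseD Ht 1 s ^ (j - 1)) • hcol τ H φ j ∈
      Submodule.span K (hcol τ H φ '' Set.Iio j) := by
  rcases j with _ | j
  · convert Submodule.zero_mem _
    ext i
    simp [hcol]
  · have hu : PowerSeries.constantCoeff (Ht s - PowerSeries.C s) = 0 := by
      rw [map_sub, hHt.2, PowerSeries.constantCoeff_C, sub_self]
    have : hcol τ Ht φ (j + 1) - (LocRes.hasseD Ht 1 s ^ j) • hcol τ H φ (j + 1) =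
        ∑ a ∈ Finset.range j,
          PowerSeries.coeff j ((Ht s - PowerSeries.C s) ^ a) • hcol τ H φ (a + 1) := by
      ext i
      show LocRes.hasseD Ht j (φ i) - _ * LocRes.hasseD H j (φ i) = _
      rw [Finset.sum_apply]
      rw [LocRes.hasseD_apply, hasse_chain hK (isGeometric_of_perfect hK) hH hHt.2 (φ i),
        coeff_subst_eq hu, map_sub, PowerSeries.coeff_C, if_neg one_ne_zero, sub_zero]
      exact add_sub_cancel_right _ _
    rw [Nat.add_sub_cancel, this]
    exact Submodule.sum_mem _ fun a ha =>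
      Submodule.smul_mem _ _ (Submodule.subset_span ⟨a + 1, Set.mem_Iio.mpr
        (Nat.succ_lt_succ (Finset.mem_range.mp ha)), rfl⟩)

omit hφ in
theorem hasseD_one_ne_zero {t : K} {Ht : K →ₐ[k] PowerSeries K} (hHt : LocRes.IsHasseFamily t Ht) :
    LocRes.hasseD Ht 1 s ≠ 0 := by
  intro h
  have hu : PowerSeries.constantCoeff (Ht s - PowerSeries.C s) = 0 := by
    rw [map_sub, hHt.2, PowerSeries.constantCoeff_C, sub_self]
  have e := congrArg (PowerSeries.coeff 1) (hasse_chain hK (isGeometric_of_perfect hK) hH hHt.2 t)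
  rw [coeff_subst_eq hu, hHt.1, map_add, PowerSeries.coeff_C, if_neg one_ne_zero, zero_add,
    PowerSeries.coeff_one_X, Finset.sum_range_one, pow_zero, PowerSeries.coeff_one, if_neg one_ne_zero,
    zero_mul, zero_add, map_sub, PowerSeries.coeff_C, if_neg one_ne_zero, sub_zero, pow_one,
    ← LocRes.hasseD_apply, h, zero_mul] at e
  exact one_ne_zero e

end Groth.Agent.FFLib
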