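import Groth.Agent.FFLib.SV.Orders

/-! Orders at a place: jumps of expansion coefficients and adapted bases. -/

namespace Groth.Agent.FFLib

open FunFld Module WithZero

universe u v

variable {k : Type u} {K : Type v} [Field k] [Field K] [Algebra k K]

/-- The columns of expansion coefficients, the first one repeated. -/
noncomputable def pcol {m : ℕ} (ψ : K →ₐ[k] LaurentSeries k) (φ : Fin m → K) : ℕ → Fin m → k
  | 0 => fun i => PowerSeries.coeff 0 (ps ψ (φ i))
  | j + 1 => fun i => PowerSeries.coeff j (ps ψ (φ i))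

/-- Coefficient columns. -/
noncomputable def ccol {m : ℕ} (ψ : K →ₐ[k] LaurentSeries k) (φ : Fin m → K) (j : ℕ) : Fin m → k :=
  fun i => PowerSeries.coeff j (ps ψ (φ i))

theorem isJump_pcol_succ {m : ℕ} (ψ : K →ₐ[k] LaurentSeries k) (φ : Fin m → K) (j : ℕ) :
    IsJump k (pcol ψ φ) (j + 1) ↔ j ≠ 0 ∧ IsJump k (ccol ψ φ) j := by
  show pcol ψ φ (j + 1) ∉ _ ↔ _
  rcases j with _ | j
  · simp only [ne_eq, not_true_eq_false, false_and, iff_false, not_not]
    exact Submodule.subset_span ⟨0, Set.mem_Iio.mpr Nat.one_pos, rfl⟩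
  · rw [and_iff_right (Nat.succ_ne_zero j)]
    have : pcol ψ φ '' Set.Iio (j + 1 + 1) = ccol ψ φ '' Set.Iio (j + 1) := by
      ext x
      simp only [Set.mem_image, Set.mem_Iio]
      constructor
      · rintro ⟨a, ha, rfl⟩
        rcases a with _ | a
        · exact ⟨0, by omega, rfl⟩
        · exact ⟨a, by omega, rfl⟩
      · rintro ⟨a, ha, rfl⟩
        exact ⟨a + 1, by omega, rfl⟩
    rw [this]
    rfl

theorem span_range_pcol {m : ℕ} (ψ : K →ₐ[k] LaurentSeries k) (φ : Fin m → K) :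
    Submodule.span k (Set.range (ccol ψ φ)) ≤ Submodule.span k (Set.range (pcol ψ φ)) :=
  Submodule.span_mono (Set.range_subset_iff.mpr fun j => ⟨j + 1, rfl⟩)

variable [IsAlgClosed k] {P : Place k K} {ψ : K →ₐ[k] LaurentSeries k}
  (hψ : LocRes.IsExpansionAt P.1 ψ) {n : ℕ} {φ : Fin (n + 1) → K}
  (hint : ∀ i, P.1 (φ i) ≤ 1)

omit [IsAlgClosed k] in
theorem ps_comb {m : ℕ} (f : Fin m → K) (a : Fin m → k) (j : ℕ) :
    PowerSeries.coeff j (ps ψ (∑ i, a i • f i)) = ∑ i, a i * ccol ψ f j i := by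
  rw [coeff_ps, map_sum, HahnSeries.coeff_sum]
  refine Finset.sum_congr rfl fun i _ => ?_
  rw [← coeff_ps, ps_smul, map_smul, smul_eq_mul]
  rfl

include hint

omit [IsAlgClosed k] in
theorem val_le_one_of_mem_span {f : K} (hf : f ∈ Submodule.span k (Set.range φ)) : P.1 f ≤ 1 := by
  refine Submodule.span_induction ?_ ?_ ?_ ?_ hf
  · rintro _ ⟨i, rfl⟩; exact hint i
  · simp
  · intro x y _ _ hx hy
    exact (P.1.map_add x y).trans (max_le hx hy)
  · intro c x _ hx
    rw [Algebra.smul_def, map_mul]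
    exact mul_le_one' (P.2.1 c) hx

include hψ

omit [IsAlgClosed k] hint in
theorem ccol_zero_ne (heff : (1 : K) ∈ Submodule.span k (Set.range φ)) : ccol ψ φ 0 ≠ 0 := by
  intro h
  obtain ⟨a, ha⟩ := (Submodule.mem_span_range_iff_exists_fun k).mp heff
  have := ps_comb (ψ := ψ) φ a 0
  rw [ha, h] at this
  have h1 : PowerSeries.coeff 0 (ps ψ (1 : K)) = (1 : k) := by
    rw [show (1 : K) = algebraMap k K 1 from (map_one _).symm, ps_algebraMap hψ,
      PowerSeries.coeff_zero_C]
  simp [h1] at this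

omit [IsAlgClosed k] in
/-- Orders of functions in the span are the jumps of the coefficient columns. -/
theorem exists_val_iff_jump (j : ℕ) :
    (∃ f ∈ Submodule.span k (Set.range φ), P.1 f = exp (-(j : ℤ))) ↔ IsJump k (ccol ψ φ) j := by
  classical
  constructor
  · rintro ⟨f, hf, hv⟩ hmem
    obtain ⟨a, rfl⟩ := (Submodule.mem_span_range_iff_exists_fun k).mp hf
    obtain ⟨h1, h2⟩ := (val_eq_iff_coeff hψ (val_le_one_of_mem_span hint hf) j).mp hv
    rw [ps_comb] at h2
    refine h2 ?_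
    let L : (Fin (n + 1) → k) →ₗ[k] k :=
      { toFun := fun v => ∑ i, a i * v i
        map_add' := fun u v => by simp [mul_add, Finset.sum_add_distrib]
        map_smul' := fun c v => by
          simp only [Pi.smul_apply, smul_eq_mul, RingHom.id_apply, Finset.mul_sum]
          exact Finset.sum_congr rfl fun i _ => by ring }
    have hle : Submodule.span k (ccol ψ φ '' Set.Iio j) ≤ LinearMap.ker L :=
      Submodule.span_le.mpr (by
        rintro _ ⟨i, hi, rfl⟩
        show ∑ l, a l * ccol ψ φ i l = 0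
        rw [← ps_comb]
        exact h1 i hi)
    exact hle hmem
  · intro hj
    obtain ⟨L, hL, hker⟩ := Submodule.exists_dual_map_eq_bot_of_notMem hj inferInstance
    let a : Fin (n + 1) → k := fun i => L (Pi.single i 1)
    have hLv : ∀ i, ∑ l, a l * ccol ψ φ i l = L (ccol ψ φ i) := fun i => by
      rw [LinearMap.pi_apply_eq_sum_univ L (ccol ψ φ i)]
      refine Finset.sum_congr rfl fun l _ => ?_
      rw [smul_eq_mul, mul_comm]
      congr 1
      simp only [a]
      congr 1
      ext b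
      simp [Pi.single_apply, eq_comm]
    have hmem : ∑ i, a i • φ i ∈ Submodule.span k (Set.range φ) :=
      Submodule.sum_mem _ fun i _ => Submodule.smul_mem _ _ (Submodule.subset_span ⟨i, rfl⟩)
    refine ⟨_, hmem, (val_eq_iff_coeff hψ (val_le_one_of_mem_span hint hmem) j).mpr ⟨fun i hi => ?_, ?_⟩⟩
    · rw [ps_comb, hLv, ← Submodule.mem_bot k, ← hker]
      exact Submodule.mem_map_of_mem (Submodule.subset_span ⟨i, hi, rfl⟩)
    · rw [ps_comb, hLv]
      exact hL

variable (hK : IsFunctionField k K) {t : K} (hψt : ψ t = HahnSeries.single 1 1)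
  {Ht : K →ₐ[k] PowerSeries K} (hHt : LocRes.IsHasseFamily t Ht)
include hK hψt hHt

theorem hcolAt_eq :
    hcolAt P Ht φ = fun j => fun i => algebraMap k _ (pcol ψ φ j i) := by
  funext j i
  rcases j with _ | j
  · exact evalP_eq hK hψ (hint i)
  · exact evalP_hasseD hK hψ hψt hHt (hint i) j

theorem isJump_hcolAt (j : ℕ) :
    IsJump (IsLocalRing.ResidueField P.O) (hcolAt P Ht φ) j ↔ IsJump k (pcol ψ φ) j := by
  rw [hcolAt_eq hψ hint hK hψt hHt]
  exact isJump_scalars (res_bijective hK P) _ j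

theorem isOrdersAt_iff (J' : Fin n → ℕ) :
    IsOrders (IsLocalRing.ResidueField P.O) (hcolAt P Ht φ) J' ↔ IsOrders k (pcol ψ φ) J' :=
  isOrders_congr (fun j => isJump_hcolAt hψ hint hK hψt hHt (j + 1)) J'

omit [IsAlgClosed k] hψ hint hK hψt hHt in
theorem orderAt_pos {J' : Fin n → ℕ} (hJ' : IsOrders k (pcol ψ φ) J') (l : Fin n) : 1 ≤ J' l :=
  Nat.one_le_iff_ne_zero.mpr ((isJump_pcol_succ ψ φ _).mp ((hJ'.2 _).mp ⟨l, rfl⟩)).1

omit [IsAlgClosed k] hK hψt hHt in
theorem mem_orders_iff {J' : Fin n → ℕ} (hJ' : IsOrders k (pcol ψ φ) J')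
    (heff : (1 : K) ∈ Submodule.span k (Set.range φ)) (j : ℕ) :
    (j = 0 ∨ j ∈ Set.range J') ↔ ∃ f ∈ Submodule.span k (Set.range φ), P.1 f = exp (-(j : ℤ)) := by
  rw [exists_val_iff_jump hψ hint, hJ'.2 j, isJump_pcol_succ]
  rcases eq_or_ne j 0 with rfl | hj
  · refine iff_of_true (Or.inl rfl) ?_
    show ccol ψ φ 0 ∉ _
    simpa using ccol_zero_ne hψ heff
  · simp [hj]

omit [IsAlgClosed k] hK hψt hHt in
/-- An adapted basis. -/
theorem exists_adapted {J' : Fin n → ℕ} (hJ' : IsOrders k (pcol ψ φ) J') (hφ : LinearIndependent k φ)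
    (heff : (1 : K) ∈ Submodule.span k (Set.range φ)) :
    ∃ (φ' : Fin (n + 1) → K) (A : Matrix (Fin (n + 1)) (Fin (n + 1)) k),
      LinearIndependent k φ' ∧ Submodule.span k (Set.range φ') = Submodule.span k (Set.range φ) ∧
      A.det ≠ 0 ∧ (∀ i, φ i = ∑ l, A i l • φ' l) ∧ φ' 0 = 1 ∧ (∀ l, P.1 (φ' l) ≤ 1) ∧
      ∀ l : Fin n, P.1 (φ' l.succ) = exp (-(J' l : ℤ)) ∧
        PowerSeries.coeff (J' l) (ps ψ (φ' l.succ)) = 1 := by
  classical
  have hex : ∀ l : Fin n, ∃ f ∈ Submodule.span k (Set.range φ), P.1 f = exp (-(J' l : ℤ)) ∧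
      PowerSeries.coeff (J' l) (ps ψ f) = 1 := by
    intro l
    obtain ⟨f, hf, hv⟩ := (mem_orders_iff hψ hint hJ' heff _).mp (Or.inr ⟨l, rfl⟩)
    have hc := ((val_eq_iff_coeff hψ (val_le_one_of_mem_span hint hf) _).mp hv).2
    refine ⟨(PowerSeries.coeff (J' l) (ps ψ f))⁻¹ • f, Submodule.smul_mem _ _ hf, ?_, ?_⟩
    · rw [val_smul P (inv_ne_zero hc), hv]
    · rw [ps_smul, map_smul, smul_eq_mul, inv_mul_cancel₀ hc]
  choose f hf hfv hfc using hex
  let φ' : Fin (n + 1) → K := Fin.cases 1 f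
  have hmem : ∀ l, φ' l ∈ Submodule.span k (Set.range φ) := by
    intro l
    induction l using Fin.cases with
    | zero => exact heff
    | succ l => exact hf l
  have hval : ∀ l : Fin (n + 1), P.1 (φ' l) =
      exp (-((Fin.cases 0 J' l : ℕ) : ℤ)) := by
    intro l
    induction l using Fin.cases with
    | zero => simp [φ', exp_zero]
    | succ l => exact hfv l
  have hmono : StrictMono (Fin.cases 0 J' : Fin (n + 1) → ℕ) := by
    intro a b hab
    induction b using Fin.cases with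
    | zero => exact absurd hab (Fin.not_lt_zero a)
    | succ b =>
      induction a using Fin.cases with
      | zero => exact orderAt_pos hJ' b
      | succ a => exact hJ'.1 (Fin.succ_lt_succ_iff.mp hab)
  have hli : LinearIndependent k φ' := by
    rw [Fintype.linearIndependent_iff]
    intro g hg i
    by_contra hi
    have hne : ∀ l, g l ≠ 0 → P.1 (g l • φ' l) = P.1 (φ' l) := fun l hl => val_smul P hl _
    obtain ⟨i₀, hi₀, hmin⟩ := (Finset.univ.filter fun l => g l ≠ 0).exists_min_image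
      (fun l => (Fin.cases 0 J' l : ℕ)) ⟨i, by simp [hi]⟩
    rw [Finset.mem_filter] at hi₀
    refine absurd (P.1.map_sum_eq_of_lt (f := fun l => g l • φ' l) (Finset.mem_univ i₀) ?_) ?_
    · intro l hl
      simp only [Finset.mem_sdiff, Finset.mem_singleton] at hl
      rw [hne i₀ hi₀.2]
      rcases eq_or_ne (g l) 0 with h | h
      · rw [h, zero_smul, map_zero, hval]
        exact exp_pos
      · rw [hne l h, hval, hval, exp_lt_exp, neg_lt_neg_iff, Int.ofNat_lt]
        have := hmin l (Finset.mem_filter.mpr ⟨Finset.mem_univ l, h⟩)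
        exact lt_of_le_of_ne this fun e => hl.2 (hmono.injective e).symm
    · rw [hg, map_zero, hne i₀ hi₀.2, hval]
      exact exp_ne_zero.symm
  have hspan : Submodule.span k (Set.range φ') = Submodule.span k (Set.range φ) := by
    have := FiniteDimensional.span_of_finite k (Set.finite_range φ)
    refine Submodule.eq_of_le_of_finrank_eq (Submodule.span_le.mpr (Set.range_subset_iff.mpr hmem)) ?_
    rw [finrank_span_eq_card hli, finrank_span_eq_card hφ]
  have hA : ∀ i, ∃ a : Fin (n + 1) → k, ∑ l, a l • φ' l = φ i := fun i =>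
    (Submodule.mem_span_range_iff_exists_fun k).mp (hspan ▸ Submodule.subset_span ⟨i, rfl⟩)
  choose A hA using hA
  refine ⟨φ', Matrix.of A, hli, hspan, ?_, fun i => (hA i).symm, rfl,
    fun l => val_le_one_of_mem_span hint (hmem l), fun l => ⟨hfv l, hfc l⟩⟩
  intro hdet
  obtain ⟨v, hv, hv0⟩ := Matrix.exists_vecMul_eq_zero_iff.mpr hdet
  refine hv (funext (Fintype.linearIndependent_iff.mp hφ v ?_))
  calc ∑ i, v i • φ i = ∑ l, (∑ i, v i * A i l) • φ' l := by
        simp_rw [← hA, Finset.smul_sum, smul_smul, Finset.sum_smul]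
        exact Finset.sum_comm
    _ = 0 := Finset.sum_eq_zero fun l _ => by
        rw [show ∑ i, v i * A i l = 0 from congrFun hv0 l, zero_smul]

end Groth.Agent.FFLib
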