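import Groth.Agent.FFLib.SV.WPoints

/-! Finitely many places with a given total ramification in a linear series, characteristic zero. -/

set_option linter.unusedSectionVars false
set_option linter.style.haveILetI false
set_option maxHeartbeats 800000

namespace Groth.Agent.FFLib

open FunFld WithZero

universe u v
variable {k : Type u} {K : Type v} [Field k] [Field K] [Algebra k K] [IsAlgClosed k] [CharZero k]
  (hK : IsFunctionField k K)

include hK

/-- In a series of dimension `n+1` only finitely many places carry a member vanishing to order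
above `n`. -/
theorem finite_high_vanishing {n : ℕ} {φ : Fin (n + 1) → K} (hφ : LinearIndependent k φ) :
    {Q : Place k K | FunFld.mapDiv k φ Q = 0 ∧
      ∃ f ∈ Submodule.span k (Set.range φ), f ≠ 0 ∧ (n : ℤ) < Q.ord f}.Finite := by
  classical
  obtain ⟨P₁⟩ := exists_place hK.1
  obtain ⟨s, -, hs⟩ := exists_unif P₁
  obtain ⟨H, hH⟩ := exists_hasse_unif hK P₁ hs
  obtain ⟨J, hJ⟩ := exists_orders hK hφ (AlgHom.id k K) hH
  have hchar : ringChar k = 0 ∨ (FunFld.mapDiv k φ).deg < ringChar k := Or.inl ringChar.eq_zero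
  obtain ⟨hI, hbin⟩ := classical_orders hK hφ hchar hH hJ
  have hex : ∀ P : Place k K, ∃ Φ : K →ₐ[k] LaurentSeries k, LocRes.IsExpansionAt P.1 Φ := fun P => by
    obtain ⟨t, -, ht⟩ := exists_unif P
    obtain ⟨ψ, hψ, -⟩ := exists_expansion' hK P ht
    exact ⟨ψ, hψ⟩
  choose Φ hΦ using hex
  refine (wDiv (AlgHom.id k K) H Φ s φ J).support.finite_toSet.subset fun Q hQ => ?_
  obtain ⟨hmapQ, f, hf, hf0, hord⟩ := hQ
  rw [Finset.mem_coe, Finsupp.mem_support_iff]
  obtain ⟨y, t, Ht, hy, ht, hHt, -, heff, hint, hmap⟩ := exists_normalized hK hφ Q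
  obtain ⟨ψ, hψ, hψt⟩ := exists_expansion' hK Q ht
  have hli := li_smul (k := k) hφ hy
  have hsp : Submodule.span k (Set.range (pcol ψ (y • φ))) = ⊤ :=
    top_le_iff.mp ((span_cols_eq_top (linearIndependent_coeff hψ hli hint)).ge.trans
      (span_range_pcol ψ (y • φ)))
  obtain ⟨J', hJ'⟩ := exists_isOrders (R := k) (n := n) (Module.finrank_fin_fun k) hsp
    (ccol_zero_ne hψ heff)
  have hd' : (FunFld.mapDiv k (y • φ)).deg = (FunFld.mapDiv k φ).deg := by
    rw [mapDiv_smul hK hφ.ne_zero hy, Divisor.deg_sub, deg_div hK.1, sub_zero]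
  have hfix : IsFixedPt (AlgHom.id k K) Q := fun z hz => hz
  have hb := hbin J' hJ'.1 (fun l => orderAt_pos hJ' l)
    (fun l => hd' ▸ orderAt_le_deg hK hli heff hint hmap hψ hJ' l)
  have hval := ((val_det_wrMat hK hfix hψ ht hint hψt hHt hJ' hli heff J).2
    (Or.inl fun l => by rw [hI l]; exact Nat.succ_pos _)).mpr hb
  rw [← wDiv_smul_change hK hφ _ hH hHt hy hΦ hJ, wDiv_apply_fixed hK hfix hψ ht hint heff J hΦ,
    ord_of_val_eq Q hval]
  have hge : ∀ l : Fin n, (l : ℕ) + 1 ≤ J' l := fun l => by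
    obtain ⟨m, hm⟩ := l
    induction m with
    | zero => exact orderAt_pos hJ' _
    | succ m ih =>
      exact Nat.succ_le_of_lt (lt_of_le_of_lt (ih (Nat.lt_of_succ_lt hm))
        (hJ'.1 (Fin.mk_lt_mk.mpr m.lt_succ_self)))
  -- the normalising factor is a unit at `Q`
  have hyQ : Q.ord y = 0 := by
    have := hmap
    rw [mapDiv_smul hK hφ.ne_zero hy, Finsupp.sub_apply, hmapQ, div_apply hK.1] at this
    omega
  obtain ⟨m, hm⟩ : ∃ m : ℕ, Q.ord f = (m : ℤ) := ⟨(Q.ord f).toNat, by omega⟩
  have hmem : y * f ∈ Submodule.span k (Set.range (y • φ)) := by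
    obtain ⟨a, rfl⟩ := (Submodule.mem_span_range_iff_exists_fun k).mp hf
    rw [Finset.mul_sum]
    refine Submodule.sum_mem _ fun i _ => ?_
    rw [mul_smul_comm]
    exact Submodule.smul_mem _ _ (Submodule.subset_span ⟨i, rfl⟩)
  have hjump := (mem_orders_iff hψ hint hJ' heff m).mpr ⟨y * f, hmem, by
    rw [val_eq_exp Q (mul_ne_zero hy hf0), ord_mul Q hy hf0, hyQ, zero_add, hm]⟩
  obtain ⟨l, hl⟩ := hjump.resolve_left (by omega)
  refine ne_of_gt (lt_of_lt_of_le ?_ (Finset.single_le_sum (f := fun l : Fin n => (J' l : ℤ) - J l)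
    (fun a _ => by rw [hI a]; have := hge a; push_cast; omega) (Finset.mem_univ l)))
  rw [hl, hI l]
  have := l.2
  push_cast; omega

/-- Only finitely many `Q` with `m (Q - P)` principal, in genus one. -/
theorem finite_torsion (hg1 : genus k K = 1) (P : Place k K) (m : ℕ) (hm : 1 ≤ m) :
    {Q : Place k K | Q ≠ P ∧ ∃ h : K, h ≠ 0 ∧
      FunFld.div k h = Finsupp.single Q (m : ℤ) - Finsupp.single P (m : ℤ)}.Finite := by
  classical
  haveI := L_finite hK.1 (Finsupp.single P (m : ℤ))
  have hell : (ell (Finsupp.single P (m : ℤ)) : ℤ) = m := by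
    rw [ell_of_deg_gt hK (by rw [Divisor.deg_single, deg_eq_one hK.1 P, hg1]; push_cast; omega),
      Divisor.deg_single, deg_eq_one hK.1 P, hg1]
    push_cast; ring
  obtain ⟨n, rfl⟩ : ∃ n, m = n + 1 := ⟨m - 1, by omega⟩
  have hdim : Module.finrank k (L (Finsupp.single P ((n + 1 : ℕ) : ℤ))) = n + 1 := by
    rw [← ell]; omega
  let b := Module.finBasisOfFinrankEq k _ hdim
  let φ : Fin (n + 1) → K := fun i => (b i : K)
  have hli : LinearIndependent k φ := b.linearIndependent.map' (L _).subtype (Submodule.ker_subtype _)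
  have hspan : Submodule.span k (Set.range φ) = L (Finsupp.single P ((n + 1 : ℕ) : ℤ)) := by
    rw [show Set.range φ = (L (Finsupp.single P ((n + 1 : ℕ) : ℤ))).subtype '' Set.range b by
      rw [← Set.range_comp]; rfl, Submodule.span_image, b.span_eq, Submodule.map_top, Submodule.range_subtype]
  refine (finite_high_vanishing hK hli).subset fun Q hQ => ?_
  obtain ⟨hne, h, h0, hdiv⟩ := hQ
  have hords : ∀ R : Place k K, R.ord h =
      Finsupp.single Q ((n + 1 : ℕ) : ℤ) R - Finsupp.single P ((n + 1 : ℕ) : ℤ) R := fun R => by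
    rw [← div_apply hK.1, hdiv, Finsupp.sub_apply]
  refine ⟨?_, h, hspan ▸ (mem_L_iff_ord h0).mpr fun R => ?_, h0, ?_⟩
  · rw [mapDiv_apply hK.1, neg_eq_zero]
    obtain ⟨a, ha⟩ := (Submodule.mem_span_range_iff_exists_fun k).mp
      (show (1 : K) ∈ Submodule.span k (Set.range φ) by
        rw [hspan]; intro R; rw [map_one, ← exp_zero, exp_le_exp, Finsupp.single_apply]; split_ifs <;> omega)
    refine le_antisymm ?_ ((Finset.le_inf'_iff _ _).mpr fun i _ => ?_)
    · by_contra hlt
      rw [not_le] at hlt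
      have hs : Q.1 (∑ i, a i • φ i) < 1 := by
        refine Valuation.map_sum_lt _ one_ne_zero fun i _ => ?_
        rw [Algebra.smul_def, map_mul]
        refine (mul_le_of_le_one_left' (Q.2.1 _)).trans_lt ?_
        rw [val_lt_one_iff Q (hli.ne_zero i)]
        exact hlt.trans_le (Finset.inf'_le _ (Finset.mem_univ i))
      rw [ha, map_one] at hs
      exact lt_irrefl _ hs
    · have := (mem_L_iff_ord (hli.ne_zero i)).mp (b i).2 Q
      rw [Finsupp.single_eq_of_ne hne] at this
      omega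
  · rw [hords, Finsupp.single_apply, Finsupp.single_apply]; split_ifs <;> omega
  · rw [hords, Finsupp.single_eq_same, Finsupp.single_eq_of_ne hne]; push_cast; omega

end Groth.Agent.FFLib
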