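import Groth.Agent.FFLib.SV.WPoints

/-! Automorphisms and Weierstrass points. -/

set_option maxHeartbeats 800000
set_option linter.unusedSimpArgs false

namespace Groth.Agent.FFLib

open FunFld WithZero IntermediateField

universe u v

variable {k : Type u} {K : Type v} [Field k] [Field K] [Algebra k K] [IsAlgClosed k]
  (hK : IsFunctionField k K)

omit [IsAlgClosed k] in
theorem isWPt_placeComap (σ : K ≃ₐ[k] K) (P : Place k K) : IsWPt (placeComap σ P) ↔ IsWPt P := by
  unfold IsWPt
  rw [ell_placeComap]

omit [IsAlgClosed k] in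
theorem placeComap_injective (σ : K ≃ₐ[k] K) : Function.Injective (placeComap σ) := fun P R e => by
  apply Subtype.ext; apply Valuation.ext; intro y
  have h := congrArg (fun Q : Place k K => Q.1 (σ.symm y)) e
  simpa [placeComap_apply] using h

include hK

omit [IsAlgClosed k] in
/-- The automorphisms fixing a transcendental element form a finite set. -/
theorem finite_fixing {x : K} (hx : Transcendental k x) : {σ : K ≃ₐ[k] K | σ x = x}.Finite := by
  have : FiniteDimensional k⟮x⟯ K := IsFF.finite_adjoin hK.1 hx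
  have hfix : ∀ σ : {σ : K ≃ₐ[k] K | σ x = x}, ∀ z : k⟮x⟯, σ.1 (z : K) = z := by
    intro σ z
    let M : IntermediateField k K :=
      { AlgHom.equalizer (σ.1 : K →ₐ[k] K) (AlgHom.id k K) with
        inv_mem' := fun w (hw : σ.1 w = w) => show σ.1 w⁻¹ = w⁻¹ by rw [map_inv₀, hw] }
    have hle : k⟮x⟯ ≤ M := adjoin_simple_le_iff.mpr σ.2
    exact hle z.2
  let f : {σ : K ≃ₐ[k] K | σ x = x} → (K ≃ₐ[k⟮x⟯] K) := fun σ =>
    AlgEquiv.ofRingEquiv (f := σ.1.toRingEquiv) (fun z => hfix σ z)
  have hf : Function.Injective f := fun a b h =>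
    Subtype.ext (AlgEquiv.ext fun z => DFunLike.congr_fun h z)
  exact Set.finite_coe_iff.mp (Finite.of_injective f hf)

/-- The hyperelliptic case: all Weierstrass points have a non-gap `2`. -/
theorem hyperelliptic_fix (hg : 1 < genus k K) (S : Finset (Place k K))
    (hS : 2 * genus k K + 2 ≤ S.card) (hW : ∀ P ∈ S, IsWPt P) (h2 : ∀ P ∈ S, ¬ IsGap P 2) :
    ∃ x : K, Module.finrank k⟮x⟯ K = 2 ∧ Transcendental k x ∧
      ∀ σ : K ≃ₐ[k] K, (∀ P ∈ S, IsFixedPt (σ : K →ₐ[k] K) P) ↔ σ x = x := by
  classical
  obtain ⟨P₀, hP₀⟩ : ∃ P, P ∈ S := Finset.card_pos.mp (by omega)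
  obtain ⟨x, hx, hx0, hord⟩ := exists_ord_of_not_gap hK (by norm_num) (h2 P₀ hP₀)
  have hfin := finrank_adjoin_pole_only hK (by norm_num) hx hx0 hord
  have htr : Transcendental k x := transcendental_of_ord_ne_zero P₀ (by rw [hord]; norm_num)
  have hpole : ∀ P, P ≠ P₀ → P.1 x ≤ 1 := fun P hne => by
    simpa [Finsupp.single_eq_of_ne hne] using hx P
  have hP₀x : 1 < P₀.1 x := by rw [one_lt_val_iff P₀ hx0, hord]; norm_num
  obtain ⟨C, hC⟩ := exists_canonical hK
  set g := genus k K with hgdef
  set C' : Divisor k K := Finsupp.single P₀ (2 * ((g : ℤ) - 1))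
  have hsub : ∀ c : k, ∀ j : ℕ, j + 1 ≤ g → (x - algebraMap k K c) ^ j ∈ L C' := fun c j hj => by
    intro P
    rw [map_pow]
    rcases eq_or_ne P P₀ with rfl | hne
    · have h1 : P.1 (x - algebraMap k K c) ≤ exp (2 : ℤ) := by
        refine (P.1.map_sub _ _).trans (max_le (by simpa using hx P) ((P.2.1 c).trans ?_))
        rw [← exp_zero, exp_le_exp]; norm_num
      refine (pow_le_pow_left' h1 j).trans ?_
      rw [← exp_nsmul, exp_le_exp, Finsupp.single_eq_same]
      simp only [nsmul_eq_mul]
      omega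
    · rw [Finsupp.single_eq_of_ne hne, exp_zero]
      exact pow_le_one' ((P.1.map_sub _ _).trans (max_le (hpole P hne) (P.2.1 c))) j
  have hC' : IsCanonical k K C' := by
    have hli : LinearIndependent k (fun i : Fin g => (⟨x ^ (i : ℕ), by
        simpa using hsub 0 i (by omega)⟩ : L C')) := by
      refine LinearIndependent.of_comp (L C').subtype ?_
      exact (linearIndependent_powers htr).comp _ Fin.val_injective
    have := L_finite hK.1 C'
    have h1 := hli.fintype_card_le_finrank
    rw [Fintype.card_fin] at h1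
    have h2 := riemann_roch hK hC C'
    have hd : C'.deg = 2 * ((g : ℤ) - 1) := by
      rw [Divisor.deg_single, deg_eq_one hK.1 P₀]; ring
    rw [hd] at h2
    obtain ⟨z, hz0, -, hz⟩ := exists_le_add_div hK.1 (D := C - C') (by
      simp only [ell, ← hgdef] at h2 ⊢; omega)
    have hdeg : (C - C' + FunFld.div k z).deg = 0 := by
      rw [Divisor.deg_add, Divisor.deg_sub, deg_div hK.1, deg_canonical hK hC, hd]; ring
    have heq : C - C' + FunFld.div k z = 0 := by
      refine le_antisymm (fun P => ?_) hz
      by_contra hlt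
      rw [not_le, Finsupp.zero_apply] at hlt
      have : Finsupp.single P (1 : ℤ) ≤ C - C' + FunFld.div k z := fun Q => by
        rcases eq_or_ne Q P with rfl | hne
        · rw [Finsupp.single_eq_same]; omega
        · rw [Finsupp.single_eq_of_ne hne]; exact hz Q
      have := Divisor.deg_mono this
      rw [hdeg, Divisor.deg_single, deg_eq_one hK.1 P] at this
      omega
    refine (canonical_iff hK hC C').mpr ⟨z, hz0, ?_⟩
    have : C + FunFld.div k z - C' = 0 := by rw [← heq]; abel
    exact (sub_eq_zero.mp this).symm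
  -- every Weierstrass point other than `P₀` is a double zero
  have hdouble : ∀ P ∈ S, P ≠ P₀ → ∀ c : k, P.1 (x - algebraMap k K c) < 1 →
      P.1 (x - algebraMap k K c) ≤ exp (-2 : ℤ) := by
    intro P hP hne c hc
    by_contra hlt
    have hu0 : x - algebraMap k K c ≠ 0 := fun e => htr (by rw [sub_eq_zero.mp e]; exact isAlgebraic_algebraMap c)
    have ho : P.ord (x - algebraMap k K c) = 1 := by
      rw [val_lt_one_iff P hu0] at hc
      rw [val_le_exp_iff P hu0] at hlt
      omega
    have hfinD : ∀ j : ℕ, FiniteDimensional k (L (C' - Finsupp.single P (j : ℤ))) := fun j => L_finite hK.1 _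
    have hstep : ∀ j, j ≤ g → ell (C' - Finsupp.single P (j : ℤ)) + j ≤ g := by
      intro j
      induction j with
      | zero => intro _; simp [ell_canonical hK hC', ← hgdef]
      | succ j ih =>
        intro hj
        have hlt' : L (C' - Finsupp.single P ((j + 1 : ℕ) : ℤ)) < L (C' - Finsupp.single P (j : ℤ)) := by
          refine lt_of_le_not_ge (L_mono (sub_le_sub_left (Finsupp.single_le_single.mpr (by omega)) C')) ?_
          intro hle
          have hv : P.1 ((x - algebraMap k K c) ^ j) = exp (-(j : ℤ)) := by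
            rw [val_eq_exp P (pow_ne_zero _ hu0), ord_pow, ho, mul_one]
          have hCP : C' P = 0 := Finsupp.single_eq_of_ne hne
          have hm := hle ((mem_L_sub_single (Int.natCast_nonneg j)).mpr ⟨hsub c j (by omega),
            by rw [hCP, zero_sub]; exact hv.le⟩)
          have hm2 := ((mem_L_sub_single (Int.natCast_nonneg _)).mp hm).2
          rw [hv, hCP, exp_le_exp] at hm2
          omega
        have := hfinD j
        have h := Submodule.finrank_lt_finrank_of_lt hlt'
        have := ih (by omega)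
        simp only [ell] at h this ⊢
        omega
    have h1 := riemann_roch hK hC' (Finsupp.single P (g : ℤ))
    have h2 := hstep g le_rfl
    rw [Divisor.deg_single, deg_eq_one hK.1 P] at h1
    have h3 := hW P hP
    simp only [IsWPt, ← hgdef] at h3
    simp only [← hgdef] at h1
    omega
  refine ⟨x, hfin, htr, fun σ => ⟨fun hfixS => ?_, fun hσ P hP => ?_⟩⟩
  · have hfix : ∀ P ∈ S, placeComap σ P = P := fun P hP => placeComap_eq_of_fixed (hfixS P hP)
    have h0 := hfix P₀ hP₀
    by_contra hne
    have hf : x - σ x ≠ 0 := sub_ne_zero.mpr (Ne.symm hne)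
    set D : Divisor k K := Finsupp.single P₀ 2 - ∑ P ∈ S.erase P₀, Finsupp.single P 1
    have hD : D.deg < 0 := by
      have e : ∀ T : Finset (Place k K), (∑ P ∈ T, Finsupp.single P (1 : ℤ) : Divisor k K).deg = (T.card : ℤ) := by
        intro T
        induction T using Finset.induction_on with
        | empty => simp [Divisor.deg_zero]
        | insert a T ha ih =>
          rw [Finset.sum_insert ha, Finset.card_insert_of_notMem ha, Divisor.deg_add, ih,
            Divisor.deg_single, deg_eq_one hK.1]
          push_cast; ring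
      rw [Divisor.deg_sub, Divisor.deg_single, deg_eq_one hK.1, e, Finset.card_erase_of_mem hP₀]
      omega
    have hmem : x - σ x ∈ L D := by
      intro P
      rcases eq_or_ne P P₀ with rfl | hne0
      · have : D P = 2 := by simp [D, Finsupp.single_apply, Finsupp.finsetSum_apply]
        rw [this]
        refine (P.1.map_sub _ _).trans (max_le (by simpa using hx P) ?_)
        rw [← placeComap_apply, h0]
        simpa using hx P
      by_cases hPS : P ∈ S
      · have : D P = -1 := by
          simp [D, Finsupp.single_apply, Finsupp.finsetSum_apply, hPS, hne0, hne0.symm]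
        rw [this]
        obtain ⟨c, hc⟩ := exists_value hK.1 (deg_eq_one hK.1 P) (hpole P hne0)
        have hc' : P.1 (σ x - algebraMap k K c) < 1 := by
          rw [← σ.commutes c, ← map_sub, ← placeComap_apply, hfix P hPS]; exact hc
        have h3 := Valuation.map_sub_lt P.1 hc hc'
        rw [sub_sub_sub_cancel_right, val_lt_one_iff P hf] at h3
        rw [val_le_exp_iff P hf]
        omega
      · have : D P = 0 := by
          simp [D, Finsupp.single_apply, Finsupp.finsetSum_apply, hPS, hne0.symm]
        rw [this, exp_zero]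
        refine (P.1.map_sub _ _).trans (max_le (hpole P hne0) ?_)
        rw [← placeComap_apply]
        exact hpole _ fun e => hne0 (placeComap_injective σ (e.trans h0.symm))
    have h0' : L D = ⊥ := by
      have := L_finite hK.1 D
      exact Submodule.finrank_eq_zero.mp (ell_eq_zero_of_deg_neg hK.1 hD)
    rw [h0', Submodule.mem_bot] at hmem
    exact hf hmem
  · refine fixed_iff.mpr ?_
    have hP₀fix : placeComap σ P₀ = P₀ := by
      by_contra hne
      have := hpole _ hne
      rw [placeComap_apply, hσ] at this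
      exact this.not_gt hP₀x
    rcases eq_or_ne P P₀ with rfl | hne
    · exact hP₀fix
    by_contra hQP
    set Q := placeComap σ P
    have hQ₀ : Q ≠ P₀ := fun e => hne (placeComap_injective σ (e.trans hP₀fix.symm))
    obtain ⟨c, hc⟩ := exists_value hK.1 (deg_eq_one hK.1 P) (hpole P hne)
    have hu0 : x - algebraMap k K c ≠ 0 := fun e => htr (by rw [sub_eq_zero.mp e]; exact isAlgebraic_algebraMap c)
    have hQc : Q.1 (x - algebraMap k K c) < 1 := by
      rw [placeComap_apply, map_sub, hσ, σ.commutes]; exact hc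
    have hPc := hdouble P hP hne c hc
    set D : Divisor k K := Finsupp.single P₀ 2 - Finsupp.single P 2 - Finsupp.single Q 1
    have hD : D.deg < 0 := by
      rw [Divisor.deg_sub, Divisor.deg_sub, Divisor.deg_single, Divisor.deg_single, Divisor.deg_single,
        deg_eq_one hK.1, deg_eq_one hK.1, deg_eq_one hK.1]
      norm_num
    have hmem : x - algebraMap k K c ∈ L D := by
      intro R
      rcases eq_or_ne R P₀ with rfl | hR
      · have : D R = 2 := by simp [D, Finsupp.single_apply, hne, hQ₀]
        rw [this]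
        refine (R.1.map_sub _ _).trans (max_le (by simpa using hx R) ((R.2.1 c).trans ?_))
        rw [← exp_zero, exp_le_exp]; norm_num
      rcases eq_or_ne R P with rfl | hRP
      · have : D R = -2 := by simp [D, hR.symm, hQP, Finsupp.single_apply]
        rw [this]; exact hPc
      rcases eq_or_ne R Q with rfl | hRQ
      · have : D Q = -1 := by simp [D, hR.symm, hRP.symm, Finsupp.single_apply]
        rw [this, val_le_exp_iff Q hu0]
        rw [val_lt_one_iff Q hu0] at hQc
        omega
      · have : D R = 0 := by simp [D, hR.symm, hRP.symm, hRQ.symm, Finsupp.single_apply]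
        rw [this, exp_zero]
        exact (R.1.map_sub _ _).trans (max_le (hpole R hR) (R.2.1 c))
    have h0' : L D = ⊥ := by
      have := L_finite hK.1 D
      exact Submodule.finrank_eq_zero.mp (ell_eq_zero_of_deg_neg hK.1 hD)
    rw [h0', Submodule.mem_bot] at hmem
    exact hu0 hmem

variable {C : Divisor k K} (hC : IsCanonical k K C) (hg : 1 < genus k K)
  (hchar : ringChar k = 0 ∨ 2 * genus k K - 2 < ringChar k)
  {n : ℕ} {φ : Fin (n + 1) → K} (hφ : LinearIndependent k φ)
  (hspan : Submodule.span k (Set.range φ) = L C)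
  {s : K} {H : K →ₐ[k] PowerSeries K} (hH : LocRes.IsHasseFamily s H)
  {J : Fin n → ℕ} (hJ : IsOrders K (hcol (AlgHom.id k K) H φ) J)
  {Φ : Place k K → (K →ₐ[k] LaurentSeries k)} (hΦ : ∀ P, LocRes.IsExpansionAt P.1 (Φ P))
include hC hg hchar hφ hspan hH hJ hΦ

theorem dichotomy :
    (2 * genus k K + 2 < Set.ncard {P : Place k K | wDiv (AlgHom.id k K) H Φ s φ J P ≠ 0} ∧
      ∀ σ : K ≃ₐ[k] K, (∀ P : Place k K, wDiv (AlgHom.id k K) H Φ s φ J P ≠ 0 →
        IsFixedPt (σ : K →ₐ[k] K) P) → σ = AlgEquiv.refl) ∨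
    (Set.ncard {P : Place k K | wDiv (AlgHom.id k K) H Φ s φ J P ≠ 0} = 2 * genus k K + 2 ∧
      ∃ x : K, Module.finrank k⟮x⟯ K = 2 ∧ Transcendental k x ∧
        ∀ σ : K ≃ₐ[k] K, (∀ P : Place k K, wDiv (AlgHom.id k K) H Φ s φ J P ≠ 0 →
          IsFixedPt (σ : K →ₐ[k] K) P) ↔ σ x = x) := by
  classical
  set W := wDiv (AlgHom.id k K) H Φ s φ J with hWdef
  obtain ⟨hcard, hext⟩ := card_wPts hK hC hg hchar hφ hspan hH hJ hΦ
  rw [← hWdef] at hcard hext
  have hset : {P : Place k K | W P ≠ 0} = (W.support : Set (Place k K)) := by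
    ext P; simp
  rw [hset, Set.ncard_coe_finset]
  rcases lt_or_eq_of_le hcard with hlt | heq
  · refine Or.inl ⟨hlt, fun σ hσ => eq_one_of_lt_fixed hK σ ?_⟩
    refine lt_of_lt_of_le ?_ (Set.encard_le_encard (s := (W.support : Set (Place k K)))
      fun P hP => hσ P (Finsupp.mem_support_iff.mp hP))
    rw [Set.encard_coe_eq_coe_finsetCard]
    exact_mod_cast hlt
  · refine Or.inr ⟨heq.symm, ?_⟩
    have hWP : ∀ P ∈ W.support, IsWPt P := fun P hP =>
      (wDiv_ne_zero_iff hK hC hg hchar hφ hspan hH hJ hΦ P).mp (Finsupp.mem_support_iff.mp hP)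
    obtain ⟨x, hx, htr, hiff⟩ := hyperelliptic_fix hK hg W.support hcard hWP
      fun P hP => hext heq.symm P (hWP P hP)
    refine ⟨x, hx, htr, fun σ => Iff.trans ?_ (hiff σ)⟩
    simp only [Finsupp.mem_support_iff]

omit hC hg hchar hφ hspan hH hJ hΦ in
/-- Finiteness of the automorphism group. -/
theorem finite_aut (hg : 1 < genus k K) (hchar : ringChar k = 0 ∨ 2 * genus k K - 2 < ringChar k) :
    Finite (K ≃ₐ[k] K) := by
  classical
  obtain ⟨C, hC⟩ := exists_canonical hK
  have := L_finite hK.1 C
  obtain ⟨m, hm⟩ : ∃ m, genus k K = m + 1 := ⟨genus k K - 1, by omega⟩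
  let b := Module.finBasisOfFinrankEq k (L C) (show Module.finrank k (L C) = m + 1 from
    (ell_canonical hK hC).trans hm)
  set φ : Fin (m + 1) → K := fun i => (b i : K)
  have hφ : LinearIndependent k φ := b.linearIndependent.map' (L C).subtype (Submodule.ker_subtype _)
  have hspan : Submodule.span k (Set.range φ) = L C := by
    have : Set.range φ = (L C).subtype '' Set.range b := by
      rw [← Set.range_comp]; rfl
    rw [this, Submodule.span_image, b.span_eq, Submodule.map_top, Submodule.range_subtype]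
  obtain ⟨P₁⟩ := exists_place hK.1
  obtain ⟨s, -, hs⟩ := exists_unif P₁
  obtain ⟨H, hH⟩ := exists_hasse_unif hK P₁ hs
  obtain ⟨J, hJ⟩ := exists_orders hK hφ (AlgHom.id k K) hH
  have hexp : ∀ P : Place k K, ∃ ψ : K →ₐ[k] LaurentSeries k, LocRes.IsExpansionAt P.1 ψ := fun P => by
    obtain ⟨t, -, ht⟩ := exists_unif P
    obtain ⟨ψ, hψ, -⟩ := exists_expansion' hK P ht
    exact ⟨ψ, hψ⟩
  choose Φ hΦ using hexp
  set W := wDiv (AlgHom.id k K) H Φ s φ J with hWdef
  have hiff := fun P => wDiv_ne_zero_iff hK hC hg hchar hφ hspan hH hJ hΦ P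
  rw [← hWdef] at hiff
  -- the stabiliser of all Weierstrass points is finite
  have hker : {σ : K ≃ₐ[k] K | ∀ P ∈ W.support, placeComap σ P = P}.Finite := by
    have hconv : ∀ σ : K ≃ₐ[k] K, (∀ P ∈ W.support, placeComap σ P = P) →
        ∀ P, W P ≠ 0 → IsFixedPt (σ : K →ₐ[k] K) P :=
      fun σ h P hP => fixed_iff.mpr (h P (Finsupp.mem_support_iff.mpr hP))
    rcases dichotomy hK hC hg hchar hφ hspan hH hJ hΦ with ⟨-, h⟩ | ⟨-, x, -, htr, h⟩
    · exact (Set.finite_singleton AlgEquiv.refl).subset fun σ hσ => h σ (hconv σ hσ)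
    · exact (finite_fixing hK htr).subset fun σ hσ => (h σ).mp (hconv σ hσ)
  let f : (K ≃ₐ[k] K) → (W.support → W.support) := fun σ P =>
    ⟨placeComap σ P.1, Finsupp.mem_support_iff.mpr ((hiff _).mpr ((isWPt_placeComap σ P.1).mpr
      ((hiff _).mp (Finsupp.mem_support_iff.mp P.2))))⟩
  have hfib : ∀ w, (f ⁻¹' {w}).Finite := by
    intro w
    rcases (f ⁻¹' {w}).eq_empty_or_nonempty with he | ⟨τ, hτ⟩
    · rw [he]; exact Set.finite_empty
    refine (hker.image fun ρ => τ.trans ρ).subset fun σ hσ => ⟨τ.symm.trans σ, fun P hP => ?_, ?_⟩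
    · have h := congrArg Subtype.val (congrFun ((Set.mem_singleton_iff.mp hσ).trans
        (Set.mem_singleton_iff.mp hτ).symm) ⟨P, hP⟩)
      apply Subtype.ext; apply Valuation.ext; intro y
      have h' := congrArg (fun Q : Place k K => Q.1 (τ.symm y)) h
      simp only [f, placeComap_apply, τ.apply_symm_apply] at h'
      exact h'
    · ext y; simp
  refine Set.finite_univ_iff.mp ((Set.finite_iUnion fun w => hfib w).subset fun σ _ => ?_)
  exact Set.mem_iUnion.mpr ⟨f σ, rfl⟩

end Groth.Agent.FFLib
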