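import Groth.Agent.FFLib.SV.Aut
import Groth.Agent.FFLib.SV.Classical
import Groth.Agent.FFLib.Gaps
import Groth.Agent.S12609

/-! Weierstrass points of the canonical map in large characteristic. -/

set_option maxHeartbeats 800000

namespace Groth.Agent.FFLib

open FunFld WithZero IntermediateField

universe u v

variable {k : Type u} {K : Type v} [Field k] [Field K] [Algebra k K] [IsAlgClosed k]
  (hK : IsFunctionField k K)

/-- A classical Weierstrass point. -/
def IsWPt (P : Place k K) : Prop := 1 < ell (Finsupp.single P (genus k K : ℤ))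

omit [IsAlgClosed k] in
theorem mem_L_placeComap (σ : K ≃ₐ[k] K) (P : Place k K) (m : ℤ) (x : K) :
    x ∈ L (Finsupp.single (placeComap σ P) m) ↔ σ x ∈ L (Finsupp.single P m) := by
  classical
  have hinj : ∀ R : Place k K, (placeComap σ P = placeComap σ R ↔ P = R) := fun R =>
    ⟨fun e => by
      apply Subtype.ext; apply Valuation.ext; intro y
      have h := congrArg (fun Q : Place k K => Q.1 (σ.symm y)) e
      simpa [placeComap_apply] using h, fun e => e ▸ rfl⟩
  have hsymm : ∀ Q : Place k K, placeComap σ (placeComap σ.symm Q) = Q := fun Q => by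
    apply Subtype.ext; apply Valuation.ext; intro y
    show Q.1 (σ.symm (σ y)) = Q.1 y
    rw [σ.symm_apply_apply]
  constructor
  · intro h R
    rw [← placeComap_apply]
    refine (h _).trans (le_of_eq ?_)
    simp only [Finsupp.single_apply, hinj]
  · intro h Q
    rw [← hsymm Q, placeComap_apply]
    refine (h _).trans (le_of_eq ?_)
    simp only [Finsupp.single_apply, hinj]

omit [IsAlgClosed k] in
theorem ell_placeComap (σ : K ≃ₐ[k] K) (P : Place k K) (m : ℤ) :
    ell (Finsupp.single (placeComap σ P) m) = ell (Finsupp.single P m) := by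
  have h : (L (Finsupp.single (placeComap σ P) m)).map σ.toLinearMap = L (Finsupp.single P m) := by
    ext z
    rw [Submodule.mem_map]
    constructor
    · rintro ⟨x, hx, rfl⟩
      exact (mem_L_placeComap σ P m x).mp hx
    · intro hz
      exact ⟨σ.symm z, (mem_L_placeComap σ P m _).mpr (by rwa [σ.apply_symm_apply]), σ.apply_symm_apply z⟩
  unfold ell
  rw [← h]
  exact (Submodule.equivMapOfInjective σ.toLinearMap σ.injective _).finrank_eq

include hK

omit [IsAlgClosed k] in
theorem isGap_one (hg : 0 < genus k K) {P : Place k K} (hP : P.deg = 1) : IsGap P 1 := by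
  have h := (isGap_succ_iff hK P 0).mpr (by
    push_cast
    rw [ell_single_one hK hg hP, Finsupp.single_zero, ell_zero hK])
  simpa using h

open Classical in
omit [IsAlgClosed k] in
/-- A gap `m` has at least `(m-1)/2` gaps below it. -/
theorem gaps_below {P : Place k K} {m : ℕ} (h : IsGap P m) :
    m - 1 ≤ 2 * ((Finset.Ico 1 m).filter (IsGap P)).card := by
  set G := (Finset.Ico 1 m).filter (IsGap P)
  have hsub : Finset.Ico 1 m ⊆ G ∪ G.image (fun a => m - a) := fun a ha => by
    rw [Finset.mem_Ico] at ha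
    by_cases hga : IsGap P a
    · exact Finset.mem_union_left _ (Finset.mem_filter.mpr ⟨Finset.mem_Ico.mpr ha, hga⟩)
    refine Finset.mem_union_right _ (Finset.mem_image.mpr ⟨m - a, Finset.mem_filter.mpr
      ⟨Finset.mem_Ico.mpr ⟨by omega, by omega⟩, ?_⟩, by omega⟩)
    by_contra hgb
    have := not_gap_add hK (a := a) (b := m - a) ha.1 (by omega) hga hgb
    rw [show a + (m - a) = m by omega] at this
    exact this h
  have h1 := Finset.card_le_card hsub
  rw [Nat.card_Ico] at h1
  have h2 := Finset.card_union_le G (G.image fun a => m - a)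
  have h3 := Finset.card_image_le (s := G) (f := fun a => m - a)
  omega

theorem mapDiv_canonical {C : Divisor k K} (hC : IsCanonical k K C) (hg : 0 < genus k K) {n : ℕ}
    {φ : Fin (n + 1) → K} (hφ : LinearIndependent k φ)
    (hspan : Submodule.span k (Set.range φ) = L C) : FunFld.mapDiv k φ = C := by
  classical
  ext P
  rw [mapDiv_apply hK.1]
  refine le_antisymm ?_ ?_
  · rw [neg_le]
    refine (Finset.le_inf'_iff _ _).mpr fun i _ => ?_
    exact (mem_L_iff_ord (hφ.ne_zero i)).mp (hspan ▸ Submodule.subset_span ⟨i, rfl⟩) P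
  · by_contra hlt
    rw [not_le] at hlt
    have hall : ∀ i, φ i ∈ L (C - Finsupp.single P 1) := fun i => by
      refine (mem_L_sub_single zero_le_one).mpr ⟨hspan ▸ Submodule.subset_span ⟨i, rfl⟩, ?_⟩
      rw [val_le_exp_iff P (hφ.ne_zero i)]
      have : Finset.univ.inf' Finset.univ_nonempty (fun i => P.ord (φ i)) ≤ P.ord (φ i) :=
        Finset.inf'_le _ (Finset.mem_univ i)
      omega
    have hP := deg_eq_one hK.1 P
    have hle : L C ≤ L (C - Finsupp.single P 1) := by
      rw [← hspan, Submodule.span_le]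
      rintro _ ⟨i, rfl⟩
      exact hall i
    have := L_finite hK.1 (C - Finsupp.single P 1)
    have h1 := Submodule.finrank_mono hle
    have h2 := riemann_roch hK hC (Finsupp.single P 1)
    have h3 := ell_canonical hK hC
    rw [ell_single_one hK hg hP, Divisor.deg_single, hP] at h2
    simp only [ell] at h2 h3
    omega

/-- Large characteristic: the map is classical. -/
theorem classical_orders {n : ℕ} {φ : Fin (n + 1) → K} (hφ : LinearIndependent k φ)
    (hchar : ringChar k = 0 ∨ (FunFld.mapDiv k φ).deg < ringChar k)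
    {s : K} {H : K →ₐ[k] PowerSeries K} (hH : LocRes.IsHasseFamily s H)
    {J : Fin n → ℕ} (hJ : IsOrders K (hcol (AlgHom.id k K) H φ) J) :
    (∀ l : Fin n, J l = (l : ℕ) + 1) ∧
    ∀ J' : Fin n → ℕ, StrictMono J' → (∀ l, 1 ≤ J' l) →
      (∀ l, (J' l : ℤ) ≤ (FunFld.mapDiv k φ).deg) → (binomMat k J' J).det ≠ 0 := by
  classical
  set d := (FunFld.mapDiv k φ).deg
  have hbin : ∀ J' : Fin n → ℕ, StrictMono J' → (∀ l, 1 ≤ J' l) → (∀ l, (J' l : ℤ) ≤ d) →
      (binomMat k J' fun l => (l : ℕ) + 1).det ≠ 0 := fun J' hJ'm hJ'1 hJ'd => by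
    let v : Fin (n + 1) → ℕ := Fin.cases 0 J'
    have hinj : Function.Injective fun i => (v i : k) := by
      intro a b hab
      have hle : ∀ c, (v c : ℤ) ≤ d ∨ v c = 0 := fun c => by
        induction c using Fin.cases with
        | zero => exact Or.inr rfl
        | succ c => exact Or.inl (hJ'd c)
      have hv : v a = v b := by
        rcases Nat.eq_zero_or_pos n with rfl | hn
        · exact congrArg v (Subsingleton.elim (α := Fin 1) a b)
        have hd0 : (0 : ℤ) ≤ d := (Int.natCast_nonneg _).trans (hJ'd ⟨0, hn⟩)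
        refine natCast_injOn hchar ?_ ?_ hab
        · rcases hle a with h | h <;> omega
        · rcases hle b with h | h <;> omega
      induction a using Fin.cases with
      | zero =>
        induction b using Fin.cases with
        | zero => rfl
        | succ b => exact absurd hv.symm (Nat.one_le_iff_ne_zero.mp (hJ'1 b))
      | succ a =>
        induction b using Fin.cases with
        | zero => exact absurd hv (Nat.one_le_iff_ne_zero.mp (hJ'1 a))
        | succ b => exact congrArg Fin.succ (hJ'm.injective hv)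
    have h := det_choose_ne_zero v hinj
    rw [Matrix.det_succ_row_zero, Fin.sum_univ_succ, Finset.sum_eq_zero (fun c _ => by simp [v]),
      add_zero] at h
    simp only [Matrix.of_apply, v, Fin.cases_zero, Fin.val_zero, pow_zero, one_mul, Nat.choose_self,
      Nat.cast_one, Fin.succAbove_zero] at h
    convert h using 2
    ext r c
    rfl
  have hI : ∀ l, J l = (l : ℕ) + 1 := by
    have hJ1 : ∀ l, 1 ≤ J l := fun l => by
      by_contra hl
      have hj := (hJ.2 (J l)).mp ⟨l, rfl⟩
      rw [Nat.eq_zero_of_not_pos hl] at hj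
      refine hj (Submodule.subset_span ⟨0, Set.mem_Iio.mpr Nat.one_pos, funext fun i => ?_⟩)
      show (AlgHom.id k K) (φ i) = LocRes.hasseD H 0 (φ i)
      rw [LocRes.hasseD_apply, PowerSeries.coeff_zero_eq_constantCoeff, hH.2]
      rfl
    have hge1 : ∀ l : Fin n, (l : ℕ) + 1 ≤ J l := fun l => by
      obtain ⟨m, hm⟩ := l
      induction m with
      | zero => exact hJ1 _
      | succ m ih =>
        exact Nat.succ_le_of_lt (lt_of_le_of_lt (ih (Nat.lt_of_succ_lt hm))
          (hJ.1 (Fin.mk_lt_mk.mpr m.lt_succ_self)))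
    obtain ⟨P⟩ := exists_place hK.1
    obtain ⟨y, t, Ht, hy, ht, hHt, -, heff, hint, hmap⟩ := exists_normalized hK hφ P
    obtain ⟨ψ, hψ, hψt⟩ := exists_expansion' hK P ht
    have hli := li_smul (k := k) hφ hy
    have hspan : Submodule.span k (Set.range (pcol ψ (y • φ))) = ⊤ :=
      top_le_iff.mp ((span_cols_eq_top (linearIndependent_coeff hψ hli hint)).ge.trans
        (span_range_pcol ψ (y • φ)))
    obtain ⟨J', hJ'⟩ := exists_isOrders (R := k) (n := n) (Module.finrank_fin_fun k) hspan
      (ccol_zero_ne hψ heff)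
    have hd : (FunFld.mapDiv k (y • φ)).deg = d := by
      rw [mapDiv_smul hK hφ.ne_zero hy, Divisor.deg_sub, deg_div hK.1, sub_zero]
    have hb := hbin J' hJ'.1 (fun l => orderAt_pos hJ' l)
      (fun l => hd ▸ orderAt_le_deg hK hli heff hint hmap hψ hJ' l)
    have hfix : IsFixedPt (AlgHom.id k K) P := fun z hz => hz
    have hval := ((val_det_wrMat hK hfix hψ ht hint hψt hHt hJ' hli heff fun l => (l : ℕ) + 1).2
      (Or.inl fun l => Nat.succ_pos _)).mpr hb
    have hle := orders_le_of_det hli _ ((orders_invariant hK _ hH hHt hy J).mpr hJ)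
      (J' := fun l : Fin n => (l : ℕ) + 1) (fun a b h => Nat.succ_lt_succ h) fun h0' => by
      rw [h0', map_zero] at hval
      exact exp_ne_zero hval.symm
    exact fun l => le_antisymm (hle l) (hge1 l)
  refine ⟨hI, ?_⟩
  rw [show J = fun l : Fin n => (l : ℕ) + 1 from funext hI]
  exact hbin

variable {C : Divisor k K} (hC : IsCanonical k K C) (hg : 1 < genus k K)
  (hchar : ringChar k = 0 ∨ 2 * genus k K - 2 < ringChar k)
  {n : ℕ} {φ : Fin (n + 1) → K} (hφ : LinearIndependent k φ)
  (hspan : Submodule.span k (Set.range φ) = L C)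
  {s : K} {H : K →ₐ[k] PowerSeries K} (hH : LocRes.IsHasseFamily s H)
  {J : Fin n → ℕ} (hJ : IsOrders K (hcol (AlgHom.id k K) H φ) J)
  {Φ : Place k K → (K →ₐ[k] LaurentSeries k)} (hΦ : ∀ P, LocRes.IsExpansionAt P.1 (Φ P))

include hC hφ hspan

omit [IsAlgClosed k] in
theorem dim_canonical : n + 1 = genus k K := by
  have h := ell_canonical hK hC
  rw [ell, ← hspan, finrank_span_eq_card hφ, Fintype.card_fin] at h
  exact h

include hg hchar hH hJ hΦ

/-- The weight at a place in terms of the gaps. -/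
theorem wDiv_canonical (P : Place k K) :
    ∃ J' : Fin n → ℕ, StrictMono J' ∧ (∀ j, j ∈ Set.range J' ↔ 1 ≤ j ∧ IsGap P (j + 1)) ∧
      (∀ l : Fin n, (l : ℕ) + 1 ≤ J' l) ∧
      wDiv (AlgHom.id k K) H Φ s φ J P = ∑ l : Fin n, ((J' l : ℤ) - ((l : ℕ) + 1 : ℕ)) := by
  classical
  have hn := dim_canonical hK hC hφ hspan
  have hd : (FunFld.mapDiv k φ).deg = 2 * (genus k K : ℤ) - 2 := by
    rw [mapDiv_canonical hK hC (by omega) hφ hspan, deg_canonical hK hC]
  have hchar' : ringChar k = 0 ∨ (FunFld.mapDiv k φ).deg < ringChar k := by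
    rcases hchar with h | h
    · exact Or.inl h
    · exact Or.inr (by rw [hd]; omega)
  obtain ⟨hI, hbin⟩ := classical_orders hK hφ hchar' hH hJ
  obtain ⟨y, t, Ht, hy, ht, hHt, -, heff, hint, hmap⟩ := exists_normalized hK hφ P
  obtain ⟨ψ, hψ, hψt⟩ := exists_expansion' hK P ht
  have hli := li_smul (k := k) hφ hy
  have hsp : Submodule.span k (Set.range (pcol ψ (y • φ))) = ⊤ :=
    top_le_iff.mp ((span_cols_eq_top (linearIndependent_coeff hψ hli hint)).ge.trans
      (span_range_pcol ψ (y • φ)))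
  obtain ⟨J', hJ'⟩ := exists_isOrders (R := k) (n := n) (Module.finrank_fin_fun k) hsp
    (ccol_zero_ne hψ heff)
  have hd' : (FunFld.mapDiv k (y • φ)).deg = (FunFld.mapDiv k φ).deg := by
    rw [mapDiv_smul hK hφ.ne_zero hy, Divisor.deg_sub, deg_div hK.1, sub_zero]
  have hfix : IsFixedPt (AlgHom.id k K) P := fun z hz => hz
  have hb := hbin J' hJ'.1 (fun l => orderAt_pos hJ' l)
    (fun l => hd' ▸ orderAt_le_deg hK hli heff hint hmap hψ hJ' l)
  have hval := ((val_det_wrMat hK hfix hψ ht hint hψt hHt hJ' hli heff J).2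
    (Or.inl fun l => by rw [hI l]; exact Nat.succ_pos _)).mpr hb
  refine ⟨J', hJ'.1, fun j => ?_, fun l => ?_, ?_⟩
  · rcases Nat.eq_zero_or_pos j with rfl | hj
    · refine iff_of_false ?_ (by simp)
      rintro ⟨l, hl⟩
      have := orderAt_pos hJ' l
      omega
    rw [((isOrdersAt_iff hψ hint hK hψt hHt J').mpr hJ').2 j,
      S12609.result k K hK C hC φ hφ hspan P y hy heff hint t ht Ht hHt j hj, and_iff_right (show 1 ≤ j from hj), IsGap]
    push_cast
    rw [add_sub_cancel_right]
  · obtain ⟨m, hm⟩ := l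
    induction m with
    | zero => exact orderAt_pos hJ' _
    | succ m ih =>
      exact Nat.succ_le_of_lt (lt_of_le_of_lt (ih (Nat.lt_of_succ_lt hm))
        (hJ'.1 (Fin.mk_lt_mk.mpr m.lt_succ_self)))
  · rw [← wDiv_smul_change hK hφ _ hH hHt hy hΦ hJ, wDiv_apply_fixed hK hfix hψ ht hint heff J hΦ,
      ord_of_val_eq P hval]
    refine Finset.sum_congr rfl fun l _ => ?_
    rw [hI l]

theorem wDiv_ne_zero_iff (P : Place k K) :
    wDiv (AlgHom.id k K) H Φ s φ J P ≠ 0 ↔ IsWPt P := by
  classical
  obtain ⟨J', hmono, hrange, hge, hW⟩ := wDiv_canonical hK hC hg hchar hφ hspan hH hJ hΦ P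
  have hn := dim_canonical hK hC hφ hspan
  have hP := deg_eq_one hK.1 P
  have h1 : wDiv (AlgHom.id k K) H Φ s φ J P = 0 ↔ ∀ l : Fin n, J' l = (l : ℕ) + 1 := by
    rw [hW, Finset.sum_eq_zero_iff_of_nonneg fun l _ => by have := hge l; omega]
    simp only [Finset.mem_univ, true_implies, sub_eq_zero, Nat.cast_inj]
  have h2 := ell_add_gaps hK hP (genus k K)
  have h3 : ((Finset.Icc 1 (genus k K)).filter (IsGap P)).card = genus k K ↔
      ∀ m ∈ Finset.Icc 1 (genus k K), IsGap P m := by
    rw [← Finset.card_filter_eq_iff]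
    simp
  have h4 : (∀ l : Fin n, J' l = (l : ℕ) + 1) ↔ ∀ m ∈ Finset.Icc 1 (genus k K), IsGap P m := by
    constructor
    · intro h m hm
      rw [Finset.mem_Icc] at hm
      rcases Nat.lt_or_ge 1 m with h1m | h1m
      · have := ((hrange (m - 1)).mp ⟨⟨m - 2, by omega⟩, by rw [h]; show m - 2 + 1 = m - 1; omega⟩).2
        rwa [show m - 1 + 1 = m by omega] at this
      · rw [show m = 1 by omega]
        exact isGap_one hK (by omega) hP
    · intro h l
      have hmem : ∀ a : Fin n, ∃ b, J' b = (a : ℕ) + 1 := fun a =>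
        (hrange _).mpr ⟨Nat.succ_pos _, h _ (Finset.mem_Icc.mpr ⟨by omega, by have := a.2; omega⟩)⟩
      choose b hb using hmem
      have hbm : StrictMono b := fun a c hac => hmono.lt_iff_lt.mp (by rw [hb, hb]; exact Nat.succ_lt_succ hac)
      have hbl : b l ≤ l := by
        have := hge (b l)
        rw [hb] at this
        exact Fin.le_iff_val_le_val.mpr (by omega)
      have hid : b l = l := le_antisymm hbl (hbm.id_le l)
      rw [← hb l, hid]
  rw [ne_eq, h1, h4, ← h3, IsWPt]
  have h5 := (ell_le_of_le hK.1 (D := (0 : Divisor k K)) (E := Finsupp.single P (genus k K : ℤ))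
    (Finsupp.single_nonneg.mpr (Int.natCast_nonneg _))).1
  rw [ell_zero hK] at h5
  omega

/-- The weight is at most `g(g-1)/2`; equality forces a non-gap `2`. -/
theorem wDiv_le (P : Place k K) :
    2 * wDiv (AlgHom.id k K) H Φ s φ J P ≤ (genus k K : ℤ) * ((genus k K : ℤ) - 1) ∧
      (2 * wDiv (AlgHom.id k K) H Φ s φ J P = (genus k K : ℤ) * ((genus k K : ℤ) - 1) → ¬ IsGap P 2) := by
  classical
  obtain ⟨J', hmono, hrange, hge, hW⟩ := wDiv_canonical hK hC hg hchar hφ hspan hH hJ hΦ P
  have hn := dim_canonical hK hC hφ hspan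
  have hb : ∀ l : Fin n, J' l ≤ 2 * ((l : ℕ) + 1) := fun l => by
    have h := gaps_below hK ((hrange _).mp ⟨l, rfl⟩).2
    have hsub : (Finset.Ico 1 (J' l + 1)).filter (IsGap P) ⊆
        insert 1 ((Finset.Iio l).image fun a => J' a + 1) := fun m hm => by
      rw [Finset.mem_filter, Finset.mem_Ico] at hm
      rcases Nat.lt_or_ge 1 m with h1m | h1m
      · obtain ⟨a, ha⟩ := (hrange (m - 1)).mpr ⟨by omega, by rw [show m - 1 + 1 = m by omega]; exact hm.2⟩
        refine Finset.mem_insert_of_mem (Finset.mem_image.mpr ⟨a, Finset.mem_Iio.mpr ?_, by omega⟩)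
        exact hmono.lt_iff_lt.mp (by omega)
      · exact Finset.mem_insert.mpr (Or.inl (by omega))
    have h2 := (Finset.card_le_card hsub).trans (Finset.card_insert_le _ _)
    have h3 := Finset.card_image_le (s := Finset.Iio l) (f := fun a => J' a + 1)
    rw [Fin.card_Iio] at h3
    omega
  have hsum' : ∀ m : ℕ, 2 * ∑ l : Fin m, (((l : ℕ) + 1 : ℕ) : ℤ) = ((m : ℤ) + 1) * m := fun m => by
    induction m with
    | zero => simp
    | succ m ih =>
      rw [Fin.sum_univ_castSucc, mul_add]
      simp only [Fin.val_castSucc, Fin.val_last] at ih ⊢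
      rw [ih]
      push_cast
      ring
  have hsum := hsum' n
  have hterm : ∀ l : Fin n, (J' l : ℤ) - (((l : ℕ) + 1 : ℕ) : ℤ) ≤ (((l : ℕ) + 1 : ℕ) : ℤ) := fun l => by
    have := hb l
    push_cast
    omega
  rw [← hn, show ((n + 1 : ℕ) : ℤ) - 1 = (n : ℤ) by push_cast; ring, Nat.cast_add, Nat.cast_one, ← hsum, hW]
  refine ⟨by linarith [Finset.sum_le_sum fun l (_ : l ∈ Finset.univ) => hterm l], fun he hgap => ?_⟩
  have heq := (Finset.sum_eq_sum_iff_of_le fun l (_ : l ∈ Finset.univ) => hterm l).mp (by linarith)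
  obtain ⟨l, hl⟩ := (hrange 1).mpr ⟨le_rfl, hgap⟩
  have h1 := heq l (Finset.mem_univ _)
  have h2 := hge l
  push_cast at h1
  omega

theorem deg_wDiv_canonical :
    2 * (wDiv (AlgHom.id k K) H Φ s φ J).deg =
      (2 * (genus k K : ℤ) + 2) * ((genus k K : ℤ) * ((genus k K : ℤ) - 1)) := by
  classical
  have hn := dim_canonical hK hC hφ hspan
  have hd : (FunFld.mapDiv k φ).deg = 2 * (genus k K : ℤ) - 2 := by
    rw [mapDiv_canonical hK hC (by omega) hφ hspan, deg_canonical hK hC]
  have hchar' : ringChar k = 0 ∨ (FunFld.mapDiv k φ).deg < ringChar k := by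
    rcases hchar with h | h
    · exact Or.inl h
    · exact Or.inr (by rw [hd]; omega)
  obtain ⟨hI, -⟩ := classical_orders hK hφ hchar' hH hJ
  have hone : Module.finrank (AlgHom.id k K).fieldRange K = 1 := by
    rw [IntermediateField.finrank_eq_one_iff_eq_top, AlgHom.fieldRange_eq_top]
    exact Function.surjective_id
  have hsum : ∀ m : ℕ, 2 * ∑ l : Fin m, (((l : ℕ) + 1 : ℕ) : ℤ) = ((m : ℤ) + 1) * m := fun m => by
    induction m with
    | zero => simp
    | succ m ih =>
      rw [Fin.sum_univ_castSucc, mul_add]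
      simp only [Fin.val_castSucc, Fin.val_last] at ih ⊢
      rw [ih]
      push_cast
      ring
  rw [deg_wDiv hK _ hH hΦ, hone, hd]
  simp only [hI]
  rw [← hn]
  push_cast
  have hs := hsum n
  push_cast at hs
  linear_combination (2 * (n : ℤ)) * hs

/-- The number of Weierstrass points. -/
theorem card_wPts :
    2 * genus k K + 2 ≤ (wDiv (AlgHom.id k K) H Φ s φ J).support.card ∧
      ((wDiv (AlgHom.id k K) H Φ s φ J).support.card = 2 * genus k K + 2 →
        ∀ P : Place k K, IsWPt P → ¬ IsGap P 2) := by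
  classical
  set W := wDiv (AlgHom.id k K) H Φ s φ J with hWdef
  set g := genus k K with hgdef
  have hdeg := deg_wDiv_canonical hK hC hg hchar hφ hspan hH hJ hΦ
  have hle := fun P => wDiv_le hK hC hg hchar hφ hspan hH hJ hΦ P
  rw [← hgdef, ← hWdef] at hdeg
  simp only [← hgdef, ← hWdef] at hle
  have hW : W.deg = ∑ P ∈ W.support, W P := by
    simp only [Divisor.deg, Finsupp.sum]
    exact Finset.sum_congr rfl fun P _ => by simp [deg_eq_one hK.1 P]
  rw [hW, Finset.mul_sum] at hdeg
  have hpos : (0 : ℤ) < (g : ℤ) * ((g : ℤ) - 1) := by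
    have : (1 : ℤ) < g := by exact_mod_cast hg
    positivity
  have hub : ∑ P ∈ W.support, 2 * W P ≤ (W.support.card : ℤ) * ((g : ℤ) * ((g : ℤ) - 1)) := by
    refine (Finset.sum_le_sum fun P _ => (hle P).1).trans (le_of_eq ?_)
    rw [Finset.sum_const, nsmul_eq_mul]
  rw [hdeg] at hub
  have h1 := le_of_mul_le_mul_right hub hpos
  refine ⟨by omega, fun he P hP => (hle P).2 ?_⟩
  have heq : ∑ P ∈ W.support, 2 * W P = ∑ P ∈ W.support, (g : ℤ) * ((g : ℤ) - 1) := by
    rw [hdeg, Finset.sum_const, nsmul_eq_mul, he]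
    push_cast
    ring
  exact (Finset.sum_eq_sum_iff_of_le fun P _ => (hle P).1).mp heq P
    (Finsupp.mem_support_iff.mpr ((wDiv_ne_zero_iff hK hC hg hchar hφ hspan hH hJ hΦ P).mpr hP))

end Groth.Agent.FFLib
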